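import Groth.Prelude.Def_Isoc
import Mathlib.RingTheory.WittVector.Complete
import Mathlib.RingTheory.Finiteness.Basic
import Mathlib.RingTheory.Noetherian.Basic
import Mathlib.RingTheory.Localization.Module

/-!
# Isocrystals: the twisted iterates `p^{-r} F^s`, lattices, stability
-/

set_option autoImplicit false
universe u v

namespace K773.Isoc

open _root_.Isoc
open scoped Pointwise

variable {p : ℕ} [Fact p.Prime] {k : Type u} [Field k] [CharP k p] [PerfectRing k p]

open scoped Isocrystal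

/-! ### the twist -/

/-- `σ^a` on `W`. -/
noncomputable abbrev sg (p : ℕ) [Fact p.Prime] (k : Type u) [Field k] [CharP k p] [PerfectRing k p]
    (a : ℤ) : WittVector p k ≃+* WittVector p k := WittVector.frobeniusEquiv p k ^ a

theorem frob_comp (a b : ℤ) : (frob p k a).comp (frob p k b) = frob p k (a + b) := by
  apply IsLocalization.ringHom_ext (nonZeroDivisors (WittVector p k))
  ext w : 1
  simp only [RingHom.comp_apply, frob_algebraMap]
  rw [zpow_add]; rfl

theorem frob_frob (a b : ℤ) (c : K(p, k)) : frob p k a (frob p k b c) = frob p k (a + b) c := by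
  rw [← frob_comp]; rfl

theorem frob_zero_apply (c : K(p, k)) : frob p k 0 c = c := by rw [frob_zero]; rfl

theorem frob_neg_frob (a : ℤ) (c : K(p, k)) : frob p k (-a) (frob p k a c) = c := by
  rw [frob_frob, neg_add_cancel, frob_zero_apply]

theorem frob_frob_neg (a : ℤ) (c : K(p, k)) : frob p k a (frob p k (-a) c) = c := by
  rw [frob_frob, add_neg_cancel, frob_zero_apply]

theorem frob_bijective (a : ℤ) : Function.Bijective (frob p k a) :=
  Function.bijective_iff_has_inverse.2 ⟨frob p k (-a), frob_neg_frob a, frob_frob_neg a⟩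

theorem p_ne_zero : (p : K(p, k)) ≠ 0 := by
  have h : (algebraMap (WittVector p k) K(p, k)) (p : (WittVector p k)) = (p : K(p, k)) := map_natCast _ _
  rw [← h]
  exact fun h0 => (WittVector.irreducible p (k := k)).ne_zero
    ((IsFractionRing.injective (WittVector p k) K(p, k)) (by rw [h0, map_zero]))

@[simp] theorem frob_p_zpow (a r : ℤ) : frob p k a ((p : K(p, k)) ^ r) = (p : K(p, k)) ^ r := by
  rw [map_zpow₀, map_natCast]

/-- every non-zero element of `W` is `p^n` times a unit -/
theorem exists_eq_pow_mul (w : (WittVector p k)) (hw : w ≠ 0) : ∃ (n : ℕ) (u : (WittVector p k)ˣ), w = (p : (WittVector p k)) ^ n * u := by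
  obtain ⟨n, u, h⟩ := WittVector.exists_eq_pow_p_mul' w hw
  exact ⟨n, u, h⟩

variable {N : Type v} [AddCommGroup N] [Module (WittVector p k) N] [Module K(p, k) N] [IsScalarTower (WittVector p k) K(p, k) N]

theorem natCast_pow_smul (n : ℕ) (x : N) : ((p : (WittVector p k)) ^ n) • x = ((p : K(p, k)) ^ n) • x := by
  rw [← IsScalarTower.algebraMap_smul K(p, k) ((p : (WittVector p k)) ^ n) x, map_pow, map_natCast]

theorem zpow_natCast_smul (n : ℕ) (x : N) : ((p : (WittVector p k)) ^ n) • x = ((p : K(p, k)) ^ (n : ℤ)) • x := by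
  rw [natCast_pow_smul, zpow_natCast]

theorem natCast_smul' (x : N) : (p : (WittVector p k)) • x = (p : K(p, k)) • x := by
  have := natCast_pow_smul (p := p) (k := k) 1 x
  simpa using this

theorem zpow_smul_smul (i j : ℤ) (x : N) :
    ((p : K(p, k)) ^ i) • ((p : K(p, k)) ^ j) • x = ((p : K(p, k)) ^ (i + j)) • x := by
  rw [smul_smul, ← zpow_add₀ p_ne_zero]

theorem smulComm (w : (WittVector p k)) (c : K(p, k)) (x : N) : w • c • x = c • w • x := by
  rw [← IsScalarTower.algebraMap_smul K(p, k) w (c • x), ← IsScalarTower.algebraMap_smul K(p, k) w x, smul_smul,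
    smul_smul, mul_comm]

variable {a : ℤ}

theorem iter_add' (F : N →ₛₗ[frob p k a] N) (n : ℕ) (x y : N) :
    (⇑F)^[n] (x + y) = (⇑F)^[n] x + (⇑F)^[n] y := (iter F n).map_add x y

theorem iter_smul' (F : N →ₛₗ[frob p k a] N) (n : ℕ) (c : K(p, k)) (x : N) :
    (⇑F)^[n] (c • x) = frob p k (a * n) c • (⇑F)^[n] x := by
  induction n with
  | zero => simp [frob_zero_apply]
  | succ n ih =>
    rw [Function.iterate_succ_apply', ih, LinearMap.map_smulₛₗ, frob_frob,
      Function.iterate_succ_apply']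
    congr 2
    push_cast; ring_nf

/-- The twisted iterate `p^{-r} F^s`, a `σ^{as}`-semilinear map. -/
noncomputable def tw (F : N →ₛₗ[frob p k a] N) (r : ℤ) (s : ℕ) : N →ₛₗ[frob p k (a * s)] N where
  toFun x := ((p : K(p, k)) ^ (-r)) • (⇑F)^[s] x
  map_add' x y := by rw [iter_add', smul_add]
  map_smul' c x := by rw [iter_smul', smul_comm]

theorem tw_apply (F : N →ₛₗ[frob p k a] N) (r : ℤ) (s : ℕ) (x : N) :
    tw F r s x = ((p : K(p, k)) ^ (-r)) • (⇑F)^[s] x := rfl

theorem map_zpow_smul (F : N →ₛₗ[frob p k a] N) (i : ℤ) (x : N) :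
    F (((p : K(p, k)) ^ i) • x) = ((p : K(p, k)) ^ i) • F x := by
  rw [LinearMap.map_smulₛₗ, frob_p_zpow]

theorem iter_zpow_smul (F : N →ₛₗ[frob p k a] N) (n : ℕ) (i : ℤ) (x : N) :
    (⇑F)^[n] (((p : K(p, k)) ^ i) • x) = ((p : K(p, k)) ^ i) • (⇑F)^[n] x := by
  rw [iter_smul', frob_p_zpow]

theorem tw_iter (F : N →ₛₗ[frob p k a] N) (r : ℤ) (s n : ℕ) (x : N) :
    (⇑(tw F r s))^[n] x = ((p : K(p, k)) ^ (-(r * n))) • (⇑F)^[s * n] x := by
  induction n with
  | zero => simp
  | succ n ih =>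
    rw [Function.iterate_succ_apply', ih, tw_apply, iter_zpow_smul, zpow_smul_smul, mul_add, mul_one,
      add_comm (s * n) s, Function.iterate_add_apply]
    congr 2
    push_cast; ring

theorem tw_tw (F : N →ₛₗ[frob p k a] N) (r r' : ℤ) (s s' : ℕ) (x : N) :
    tw (tw F r s) r' s' x = tw F (r' + r * s') (s * s') x := by
  rw [tw_apply, tw_iter, zpow_smul_smul, tw_apply]
  congr 2; ring

theorem tw_iter' (F : N →ₛₗ[frob p k a] N) (r : ℤ) (s n : ℕ) (x : N) :
    (⇑(tw F r s))^[n] x = tw F (r * n) (s * n) x := by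
  rw [tw_iter, tw_apply]

theorem tw_zero_one (F : N →ₛₗ[frob p k a] N) (x : N) : tw F 0 1 x = F x := by
  rw [tw_apply]; simp

theorem tw_bijective (F : N →ₛₗ[frob p k a] N) (hF : Function.Bijective F) (r : ℤ) (s : ℕ) :
    Function.Bijective (tw F r s) := by
  have h1 : Function.Bijective ((⇑F)^[s]) := hF.iterate s
  have h2 : Function.Bijective (fun x : N => ((p : K(p, k)) ^ (-r)) • x) :=
    Function.bijective_iff_has_inverse.2 ⟨fun x => ((p : K(p, k)) ^ r) • x,
      fun x => by beta_reduce; rw [zpow_smul_smul, add_neg_cancel, zpow_zero, one_smul],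
      fun x => by beta_reduce; rw [zpow_smul_smul, neg_add_cancel, zpow_zero, one_smul]⟩
  exact h2.comp h1

/-! ### images of lattices -/

/-- `W`-semilinearity of an `L`-semilinear map -/
theorem map_smulW (F : N →ₛₗ[frob p k a] N) (w : (WittVector p k)) (x : N) : F (w • x) = (sg p k a w) • F x := by
  rw [← IsScalarTower.algebraMap_smul K(p, k) w x, LinearMap.map_smulₛₗ, frob_algebraMap,
    IsScalarTower.algebraMap_smul K(p, k)]

/-- an `L`-semilinear map as a `W`-semilinear map -/
noncomputable def resW (F : N →ₛₗ[frob p k a] N) : N →ₛₗ[(sg p k a : (WittVector p k) →+* (WittVector p k))] N where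
  toFun := F
  map_add' := F.map_add
  map_smul' := map_smulW F

@[simp] theorem resW_apply (F : N →ₛₗ[frob p k a] N) (x : N) : resW F x = F x := rfl

/-- the image of a `W`-submodule -/
noncomputable def im (F : N →ₛₗ[frob p k a] N) (M : Submodule (WittVector p k) N) : Submodule (WittVector p k) N :=
  M.map (resW F)

theorem mem_im {F : N →ₛₗ[frob p k a] N} {M : Submodule (WittVector p k) N} {x : N} :
    x ∈ im F M ↔ ∃ y ∈ M, F y = x := Iff.rfl

theorem im_mono (F : N →ₛₗ[frob p k a] N) {M M' : Submodule (WittVector p k) N} (h : M ≤ M') : im F M ≤ im F M' :=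
  Submodule.map_mono h

theorem im_sup (F : N →ₛₗ[frob p k a] N) (M M' : Submodule (WittVector p k) N) :
    im F (M ⊔ M') = im F M ⊔ im F M' := Submodule.map_sup _ _ _

theorem im_fg (F : N →ₛₗ[frob p k a] N) {M : Submodule (WittVector p k) N} (h : M.FG) : (im F M).FG :=
  h.map _

theorem latImg_eq_im (F : N →ₛₗ[frob p k a] N) (s : ℕ) (M : Submodule (WittVector p k) N) :
    latImg F s M = im (tw F 0 s) M := by
  rw [latImg]
  have h : ((⇑F)^[s] '' (M : Set N)) = (im (tw F 0 s) M : Set N) := by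
    ext x
    simp only [Set.mem_image, SetLike.mem_coe, mem_im, tw_apply, neg_zero, zpow_zero, one_smul]
  rw [h, Submodule.span_eq]

theorem mem_latImg {F : N →ₛₗ[frob p k a] N} {s : ℕ} {M : Submodule (WittVector p k) N} {x : N} :
    x ∈ latImg F s M ↔ ∃ y ∈ M, (⇑F)^[s] y = x := by
  rw [latImg_eq_im, mem_im]
  simp only [tw_apply, neg_zero, zpow_zero, one_smul]

omit [PerfectRing k p] in
theorem mem_pPow {r : ℤ} {M : Submodule (WittVector p k) N} {x : N} :
    x ∈ pPow r M ↔ ∃ y ∈ M, ((p : K(p, k)) ^ r) • y = x := Iff.rfl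

theorem mem_pPow' {r : ℤ} {M : Submodule (WittVector p k) N} {x : N} :
    x ∈ pPow r M ↔ ((p : K(p, k)) ^ (-r)) • x ∈ M := by
  rw [mem_pPow]
  constructor
  · rintro ⟨y, hy, rfl⟩
    rwa [zpow_smul_smul, neg_add_cancel, zpow_zero, one_smul]
  · intro h
    exact ⟨_, h, by rw [zpow_smul_smul, add_neg_cancel, zpow_zero, one_smul]⟩

theorem latImg_le_iff {F : N →ₛₗ[frob p k a] N} {s : ℕ} {r : ℤ} {M : Submodule (WittVector p k) N} :
    latImg F s M ≤ pPow r M ↔ ∀ x ∈ M, tw F r s x ∈ M := by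
  constructor
  · intro h x hx
    exact mem_pPow'.1 (h (mem_latImg.2 ⟨x, hx, rfl⟩))
  · rintro h _ hx
    obtain ⟨y, hy, rfl⟩ := mem_latImg.1 hx
    exact mem_pPow'.2 (h y hy)

theorem latImg_eq_iff {F : N →ₛₗ[frob p k a] N} {s : ℕ} {r : ℤ} {M : Submodule (WittVector p k) N} :
    latImg F s M = pPow r M ↔ im (tw F r s) M = M := by
  constructor
  · intro h
    apply le_antisymm
    · rintro _ ⟨x, hx, rfl⟩
      exact latImg_le_iff.1 h.le x hx
    · intro x hx
      have : ((p : K(p, k)) ^ r) • x ∈ latImg F s M := by rw [h]; exact mem_pPow.2 ⟨x, hx, rfl⟩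
      obtain ⟨y, hy, h2⟩ := mem_latImg.1 this
      exact mem_im.2 ⟨y, hy, by rw [tw_apply, h2, zpow_smul_smul, neg_add_cancel, zpow_zero, one_smul]⟩
  · intro h
    apply le_antisymm
    · exact latImg_le_iff.2 fun x hx => by rw [← h]; exact mem_im.2 ⟨x, hx, rfl⟩
    · intro x hx
      obtain ⟨y, hy, rfl⟩ := mem_pPow.1 hx
      rw [← h] at hy
      obtain ⟨z, hz, rfl⟩ := mem_im.1 hy
      exact mem_latImg.2 ⟨z, hz, by
        rw [tw_apply, zpow_smul_smul, add_neg_cancel, zpow_zero, one_smul]⟩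

theorem im_iter_eq {F : N →ₛₗ[frob p k a] N} {r : ℤ} {s : ℕ} {M : Submodule (WittVector p k) N}
    (h : im (tw F r s) M = M) (n : ℕ) : im (tw F (r * n) (s * n)) M = M := by
  have h1 : ∀ n : ℕ, ∀ x : N, x ∈ M → (⇑(tw F r s))^[n] x ∈ M := by
    intro n
    induction n with
    | zero => intro x hx; exact hx
    | succ n ih =>
      intro x hx
      rw [Function.iterate_succ_apply']
      have : tw F r s ((⇑(tw F r s))^[n] x) ∈ im (tw F r s) M := mem_im.2 ⟨_, ih x hx, rfl⟩
      rwa [h] at this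
  have h2 : ∀ n : ℕ, ∀ y : N, y ∈ M → ∃ x ∈ M, (⇑(tw F r s))^[n] x = y := by
    intro n
    induction n with
    | zero => intro y hy; exact ⟨y, hy, rfl⟩
    | succ n ih =>
      intro y hy
      rw [← h] at hy
      obtain ⟨z, hz, rfl⟩ := mem_im.1 hy
      obtain ⟨x, hx, rfl⟩ := ih z hz
      exact ⟨x, hx, Function.iterate_succ_apply' _ _ _⟩
  apply le_antisymm
  · rintro _ ⟨x, hx, rfl⟩
    rw [resW_apply, ← tw_iter']
    exact h1 n x hx
  · intro y hy
    obtain ⟨x, hx, rfl⟩ := h2 n y hy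
    exact mem_im.2 ⟨x, hx, (tw_iter' F r s n x).symm⟩

/-! ### finitely generated submodules and denominators -/

omit [PerfectRing k p] [IsScalarTower (WittVector p k) K(p, k) N] in
theorem zpow_smul_mem_of_le {M : Submodule (WittVector p k) N} [IsScalarTower (WittVector p k) K(p, k) N] {i : ℤ} (hi : 0 ≤ i) {x : N}
    (hx : x ∈ M) : ((p : K(p, k)) ^ i) • x ∈ M := by
  obtain ⟨n, rfl⟩ := Int.eq_ofNat_of_zero_le hi
  have h : ((p : (WittVector p k)) ^ n) • x = ((p : K(p, k)) ^ (n : ℤ)) • x := by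
    rw [← IsScalarTower.algebraMap_smul K(p, k) ((p : (WittVector p k)) ^ n) x, map_pow, map_natCast, zpow_natCast]
  rw [← h]
  exact M.smul_mem _ hx

theorem pPow_mono_left {i j : ℤ} (hij : i ≤ j) (M : Submodule (WittVector p k) N) : pPow j M ≤ pPow i M := by
  intro x hx
  rw [mem_pPow'] at hx ⊢
  have := zpow_smul_mem_of_le (show 0 ≤ j - i by omega) hx
  rwa [zpow_smul_smul, show j - i + -j = -i by ring] at this

omit [PerfectRing k p] in
theorem pPow_mono_right (i : ℤ) {M M' : Submodule (WittVector p k) N} (h : M ≤ M') : pPow i M ≤ pPow i M' := by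
  rintro _ ⟨x, hx, rfl⟩
  exact ⟨x, h hx, rfl⟩

/-- an element of the `L`-span of a `W`-submodule is carried into it by a power of `p` -/
theorem exists_zpow_smul_mem {A : Submodule (WittVector p k) N} {x : N}
    (hx : x ∈ Submodule.span K(p, k) (A : Set N)) : ∃ e : ℕ, ((p : K(p, k)) ^ (e : ℤ)) • x ∈ A := by
  induction hx using Submodule.span_induction with
  | mem y hy => exact ⟨0, by simpa using hy⟩
  | zero => exact ⟨0, by simp⟩
  | add y z _ _ hy hz =>
    obtain ⟨e, he⟩ := hy
    obtain ⟨f, hf⟩ := hz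
    refine ⟨e + f, ?_⟩
    rw [smul_add]
    refine A.add_mem ?_ ?_
    · have := zpow_smul_mem_of_le (show (0 : ℤ) ≤ f by omega) he
      rwa [zpow_smul_smul, show (f : ℤ) + e = ((e + f : ℕ) : ℤ) by push_cast; ring] at this
    · have := zpow_smul_mem_of_le (show (0 : ℤ) ≤ e by omega) hf
      rwa [zpow_smul_smul, show (e : ℤ) + f = ((e + f : ℕ) : ℤ) by push_cast; ring] at this
  | smul c y _ hy =>
    obtain ⟨e, he⟩ := hy
    obtain ⟨w, d, hd, rfl⟩ := IsFractionRing.div_surjective (A := (WittVector p k)) c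
    obtain ⟨n, u, hn⟩ := exists_eq_pow_mul d (nonZeroDivisors.ne_zero hd)
    refine ⟨e + n, ?_⟩
    have hu : algebraMap (WittVector p k) K(p, k) (u : (WittVector p k)) ≠ 0 := fun h0 => u.ne_zero
      ((IsFractionRing.injective (WittVector p k) K(p, k)) (by rw [h0, map_zero]))
    have key : ((p : K(p, k)) ^ ((e + n : ℕ) : ℤ)) • (algebraMap (WittVector p k) K(p, k) w / algebraMap (WittVector p k) K(p, k) d) • y =
        (w * (u⁻¹ : (WittVector p k)ˣ)) • ((p : K(p, k)) ^ (e : ℤ)) • y := by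
      rw [← IsScalarTower.algebraMap_smul K(p, k) (w * (u⁻¹ : (WittVector p k)ˣ)), smul_smul, smul_smul, hn, map_mul,
        map_mul, map_pow, map_natCast]
      congr 1
      have hu' : algebraMap (WittVector p k) K(p, k) ((u⁻¹ : (WittVector p k)ˣ) : (WittVector p k)) * algebraMap (WittVector p k) K(p, k) (u : (WittVector p k)) = 1 := by
        rw [← map_mul, Units.inv_mul, map_one]
      have hp := p_ne_zero (p := p) (k := k)
      rw [eq_comm, eq_div_of_mul_eq hu hu']
      push_cast
      rw [zpow_add₀ hp, zpow_natCast, zpow_natCast]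
      field_simp
    rw [key]
    exact A.smul_mem _ he

/-- denominators are bounded on a finitely generated submodule -/
theorem exists_zpow_smul_le {A M : Submodule (WittVector p k) N} (hM : M.FG)
    (h : ∀ x ∈ M, x ∈ Submodule.span K(p, k) (A : Set N)) :
    ∃ e : ℕ, ∀ x ∈ M, ((p : K(p, k)) ^ (e : ℤ)) • x ∈ A := by
  obtain ⟨S, hS⟩ := hM
  choose! e he using fun x (hx : x ∈ Submodule.span K(p, k) (A : Set N)) => exists_zpow_smul_mem hx
  refine ⟨S.sup e, fun x hx => ?_⟩
  rw [← hS] at hx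
  induction hx using Submodule.span_induction with
  | mem y hy =>
    have hy' : y ∈ M := by rw [← hS]; exact Submodule.subset_span hy
    have h1 := he y (h y hy')
    have h2 : e y ≤ S.sup e := Finset.le_sup hy
    have := zpow_smul_mem_of_le (show (0 : ℤ) ≤ ((S.sup e : ℕ) : ℤ) - e y by omega) h1
    rwa [zpow_smul_smul, sub_add_cancel] at this
  | zero => simp
  | add y z _ _ hy hz => rw [smul_add]; exact A.add_mem hy hz
  | smul c y _ hy => rw [← smulComm]; exact A.smul_mem _ hy

end K773.Isoc
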