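import Groth.Agent.Isoc.K773.Base
import Groth.Agent.SigmaLin.K985.Local
import Groth.Agent.Ega2.CompleteFinite
import Mathlib.RingTheory.WittVector.DiscreteValuationRing

/-!
# Chains of lattices between `p M` and `M`; limits in lattices
-/

set_option autoImplicit false
universe u v

namespace K773.Isoc

open _root_.Isoc
open scoped Pointwise Isocrystal
open IsLocalRing K985.SigmaLin

variable {p : ℕ} [Fact p.Prime] {k : Type u} [Field k] [CharP k p] [PerfectRing k p]
variable {N : Type v} [AddCommGroup N] [Module (WittVector p k) N] [Module K(p, k) N]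
  [IsScalarTower (WittVector p k) K(p, k) N]

theorem maximalIdeal_eq : maximalIdeal (WittVector p k) = Ideal.span {(p : WittVector p k)} :=
  (WittVector.irreducible p).maximalIdeal_eq

theorem mem_maximalIdeal_smul {M : Submodule (WittVector p k) N} (x : M) :
    x ∈ (maximalIdeal (WittVector p k) • ⊤ : Submodule (WittVector p k) M) ↔
      (x : N) ∈ pPow 1 M := by
  rw [mem_red_iff maximalIdeal_eq, mem_pPow]
  constructor
  · rintro ⟨m', rfl⟩
    exact ⟨m', m'.2, by rw [zpow_one, Submodule.coe_smul, natCast_smul']⟩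
  · rintro ⟨y, hy, h⟩
    refine ⟨⟨y, hy⟩, Subtype.ext ?_⟩
    rw [← h, zpow_one, Submodule.coe_smul, natCast_smul']

theorem finrank_red_le (M : Submodule (WittVector p k) N) (hM : M.IsLattice K(p, k)) {h : ℕ}
    (hh : Module.finrank K(p, k) N ≤ h) [Module.Finite K(p, k) N] :
    Module.finrank (ResidueField (WittVector p k)) (Red (WittVector p k) M) ≤ h := by
  have hfree : Module.Free (WittVector p k) M := Submodule.IsLattice.free K(p, k) M
  have hfin : Module.Finite (WittVector p k) M := Submodule.IsLattice.finite K(p, k) M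
  have hr : Module.finrank (WittVector p k) M = Module.finrank K(p, k) N :=
    congrArg Cardinal.toNat (Submodule.IsLattice.rank' K(p, k) M)
  let b := Module.finBasis (WittVector p k) M
  have hspan : Submodule.span (ResidueField (WittVector p k))
      (Set.range fun i => (Submodule.Quotient.mk (b i) : Red (WittVector p k) M)) = ⊤ := by
    rw [eq_top_iff]
    rintro v -
    obtain ⟨m, rfl⟩ := Submodule.Quotient.mk_surjective _ v
    have hm : m ∈ Submodule.span (WittVector p k) (Set.range b) := by rw [b.span_eq]; trivial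
    induction hm using Submodule.span_induction with
    | mem y hy =>
      obtain ⟨i, rfl⟩ := hy
      exact Submodule.subset_span ⟨i, rfl⟩
    | zero => exact Submodule.zero_mem _
    | add y z _ _ hy hz => exact Submodule.add_mem _ hy hz
    | smul r y _ hy => exact Submodule.smul_mem _ (residue (WittVector p k) r) hy
  have := finrank_range_le_card (R := ResidueField (WittVector p k))
    (fun i => (Submodule.Quotient.mk (b i) : Red (WittVector p k) M))
  rw [Set.finrank, hspan, finrank_top, Fintype.card_fin, hr] at this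
  exact this.trans hh

/-- **Chain lemma**: a chain of `h + 2` modules between `p M` and `M`, `h ≥ dim N`, is not strict. -/
theorem chain_lemma (M : Submodule (WittVector p k) N) (hM : M.IsLattice K(p, k)) {h : ℕ}
    [Module.Finite K(p, k) N] (hh : Module.finrank K(p, k) N ≤ h)
    (C : ℕ → Submodule (WittVector p k) N) (hC1 : ∀ j ≤ h + 1, pPow 1 M ≤ C j)
    (hC2 : ∀ j ≤ h + 1, C j ≤ M) (hmono : ∀ j ≤ h, C j ≤ C (j + 1)) :
    ∃ j ≤ h, C j = C (j + 1) := by
  by_contra hcon
  push Not at hcon
  have hfin : Module.Finite (WittVector p k) M := Submodule.IsLattice.finite K(p, k) M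
  let V := Red (WittVector p k) M
  let D : ℕ → Submodule (ResidueField (WittVector p k)) V := fun j =>
    { carrier := {v | ∃ m : M, (m : N) ∈ C j ∧ (Submodule.Quotient.mk m : V) = v}
      add_mem' := by
        rintro _ _ ⟨m, hm, rfl⟩ ⟨n, hn, rfl⟩
        exact ⟨m + n, (C j).add_mem hm hn, rfl⟩
      zero_mem' := ⟨0, (C j).zero_mem, rfl⟩
      smul_mem' := by
        rintro c _ ⟨m, hm, rfl⟩
        obtain ⟨r, rfl⟩ := residue_surjective c
        exact ⟨r • m, (C j).smul_mem _ hm, rfl⟩ }
  have hlt : ∀ j ≤ h, D j < D (j + 1) := by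
    intro j hj
    refine lt_of_le_of_ne ?_ ?_
    · rintro _ ⟨m, hm, rfl⟩
      exact ⟨m, hmono j hj hm, rfl⟩
    · intro heq
      apply hcon j hj
      apply le_antisymm (hmono j hj)
      intro x hx
      have hxM : x ∈ M := hC2 (j + 1) (by omega) hx
      have hxD : (Submodule.Quotient.mk ⟨x, hxM⟩ : V) ∈ D (j + 1) := ⟨⟨x, hxM⟩, hx, rfl⟩
      rw [← heq] at hxD
      obtain ⟨m, hm, hmx⟩ := hxD
      rw [Submodule.Quotient.eq, mem_maximalIdeal_smul] at hmx
      have h1 := hC1 j (by omega) hmx
      have h2 := (C j).sub_mem hm h1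
      rwa [Submodule.coe_sub, sub_sub_cancel] at h2
  have hrank : ∀ j ≤ h + 1, j ≤ Module.finrank (ResidueField (WittVector p k)) (D j) := by
    intro j
    induction j with
    | zero => intro _; exact Nat.zero_le _
    | succ j ih =>
      intro hj
      have h1 := ih (by omega)
      have h2 := Submodule.finrank_lt_finrank_of_lt (hlt j (by omega))
      omega
  have h1 := hrank (h + 1) le_rfl
  have h2 := Submodule.finrank_le (D (h + 1))
  have h3 := finrank_red_le M hM hh
  have h4 : Module.finrank (ResidueField (WittVector p k)) V ≤ h := h3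
  omega

/-! ### limits -/

/-- the `p`-adic limit of a Cauchy sequence in a finitely generated module -/
theorem exists_limit {M : Submodule (WittVector p k) N} (hM : M.FG) (x : ℕ → N)
    (hx : ∀ n, x n ∈ M) (h : ∀ n : ℕ, x (n + 1) - x n ∈ pPow n M) :
    ∃ z ∈ M, ∀ n : ℕ, z - x n ∈ pPow n M := by
  have hfin : Module.Finite (WittVector p k) M := Module.Finite.iff_fg.2 hM
  have : IsAdicComplete (maximalIdeal (WittVector p k)) (WittVector p k) := by
    rw [maximalIdeal_eq]; infer_instance
  have hac : IsAdicComplete (maximalIdeal (WittVector p k)) M :=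
    Groth.Agent.Ega2.CompleteFinite.isAdicComplete_of_finite
  have hsm : ∀ (n : ℕ) (a b : M), a ≡ b [SMOD (maximalIdeal (WittVector p k) ^ n • ⊤ :
      Submodule (WittVector p k) M)] ↔ (a : N) - b ∈ pPow n M := by
    intro n a b
    rw [SModEq.sub_mem, maximalIdeal_eq, Ideal.span_singleton_pow,
      Submodule.ideal_span_singleton_smul, mem_pPow]
    constructor
    · rintro ⟨m', _, hm⟩
      refine ⟨m', m'.2, ?_⟩
      have := congrArg Subtype.val hm
      rw [← zpow_natCast_smul]
      exact this
    · rintro ⟨y, hy, hm⟩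
      refine ⟨⟨y, hy⟩, trivial, Subtype.ext ?_⟩
      rw [← zpow_natCast_smul] at hm
      exact hm
  have hstep : ∀ a c : ℕ, a ≤ c → x c - x a ∈ pPow a M := by
    intro a c hac'
    induction c, hac' using Nat.le_induction with
    | base => rw [sub_self]; exact Submodule.zero_mem _
    | succ c hc ih =>
      have h1 := pPow_mono_left (show (a : ℤ) ≤ c by omega) M (h c)
      have := (pPow a M).add_mem h1 ih
      rwa [sub_add_sub_cancel] at this
  obtain ⟨z, hz⟩ := IsPrecomplete.prec (I := maximalIdeal (WittVector p k)) (M := M) inferInstance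
    (f := fun n => ⟨x n, hx n⟩) (by
      intro a c hac'
      refine (hsm a _ _).2 ?_
      have := (pPow a M).neg_mem (hstep a c hac')
      rwa [neg_sub] at this)
  refine ⟨z, z.2, fun n => ?_⟩
  have := (pPow n M).neg_mem ((hsm n _ _).1 (hz n))
  rwa [neg_sub] at this

omit [PerfectRing k p] in
theorem pPow_zero (M : Submodule (WittVector p k) N) : pPow 0 M = M := by
  rw [pPow, zpow_zero]; exact one_smul _ _

theorem pPow_pPow (i j : ℤ) (M : Submodule (WittVector p k) N) :
    pPow i (pPow j M) = pPow (i + j) M := by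
  ext x
  rw [mem_pPow', mem_pPow', mem_pPow', zpow_smul_smul, neg_add, add_comm (-j)]

omit [PerfectRing k p] in
theorem pPow_fg (i : ℤ) {M : Submodule (WittVector p k) N} (hM : M.FG) : (pPow i M).FG :=
  hM.map _

theorem exists_limit' {M : Submodule (WittVector p k) N} (hM : M.FG) (n : ℕ) (x : ℕ → N)
    (hx : x 0 ∈ M) (h : ∀ i : ℕ, x (i + 1) - x i ∈ pPow (n + i) M) :
    ∃ z ∈ M, ∀ i : ℕ, z - x i ∈ pPow (n + i) M := by
  have hmem : ∀ i, x i - x 0 ∈ pPow n M := by
    intro i
    induction i with
    | zero => rw [sub_self]; exact Submodule.zero_mem _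
    | succ i ih =>
      have h1 := pPow_mono_left (show (n : ℤ) ≤ n + i by omega) M (h i)
      have := (pPow n M).add_mem h1 ih
      rwa [sub_add_sub_cancel] at this
  obtain ⟨z, hz, hz'⟩ := exists_limit (pPow_fg n hM) (fun i => x i - x 0) hmem (fun i => by
    rw [pPow_pPow, sub_sub_sub_cancel_right, add_comm]; exact h i)
  refine ⟨z + x 0, M.add_mem ?_ hx, fun i => ?_⟩
  · have := pPow_mono_left (show (0 : ℤ) ≤ n by omega) M hz
    rwa [pPow_zero] at this
  · have := hz' i
    rw [pPow_pPow, add_comm (i : ℤ)] at this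
    rwa [show z + x 0 - x i = z - (x i - x 0) by abel]

/-- finitely generated modules are `p`-adically separated -/
theorem eq_zero_of_forall_mem {M : Submodule (WittVector p k) N} (hM : M.FG) (x : N)
    (h : ∀ n : ℕ, x ∈ pPow n M) : x = 0 := by
  have hfin : Module.Finite (WittVector p k) M := Module.Finite.iff_fg.2 hM
  have hac : IsHausdorff (maximalIdeal (WittVector p k)) M := inferInstance
  have hxM : x ∈ M := by have := h 0; rw [mem_pPow'] at this; simpa using this
  have : (⟨x, hxM⟩ : M) = 0 := by
    refine hac.haus _ fun n => ?_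
    rw [SModEq.sub_mem, maximalIdeal_eq, Ideal.span_singleton_pow,
      Submodule.ideal_span_singleton_smul, sub_zero]
    obtain ⟨y, hy, hm⟩ := mem_pPow.1 (h n)
    refine ⟨⟨y, hy⟩, trivial, Subtype.ext ?_⟩
    rw [← zpow_natCast_smul] at hm
    exact hm
  exact congrArg Subtype.val this

end K773.Isoc
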