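import Groth.Agent.Isoc.K773.Std
import Groth.Agent.Isoc.K797.Std
import Mathlib.Data.Fin.Tuple.Basic
import Mathlib.LinearAlgebra.Projection

/-!
# The classification of isocrystals over an algebraically closed field
-/

set_option autoImplicit false
universe u v w

namespace K773.Isoc

open _root_.Isoc
open scoped Pointwise Isocrystal

variable {p : ℕ} [Fact p.Prime] {k : Type u} [Field k] [CharP k p] [PerfectRing k p]
variable {N : Type v} [AddCommGroup N] [Module (WittVector p k) N] [Module K(p, k) N]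
  [IsScalarTower (WittVector p k) K(p, k) N]
variable {a : ℤ}

/-- images of isoclinic subspaces under morphisms are isoclinic -/
theorem IsoclOn.map' {N' : Type w} [AddCommGroup N'] [Module (WittVector p k) N']
    [Module K(p, k) N'] [IsScalarTower (WittVector p k) K(p, k) N'] {F : N →ₛₗ[frob p k a] N}
    {F' : N' →ₛₗ[frob p k a] N'} (f : N →ₗ[K(p, k)] N') (hf : ∀ x, f (F x) = F' (f x))
    {P : Submodule K(p, k) N} {μ : ℚ} (h : IsoclOn F P μ) : IsoclOn F' (P.map f) μ := by
  obtain ⟨M, hM, hspan, r, s, hs, hμ, h⟩ := h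
  have hiter : ∀ (n : ℕ) (x : N), f ((⇑F)^[n] x) = (⇑F')^[n] (f x) := by
    intro n
    induction n with
    | zero => intro x; rfl
    | succ n ih => intro x; rw [Function.iterate_succ_apply', hf, ih, Function.iterate_succ_apply']
  have htw : ∀ x, f (tw F r s x) = tw F' r s (f x) := by
    intro x; rw [tw_apply, tw_apply, map_smul, hiter]
  refine ⟨M.map (f.restrictScalars (WittVector p k)), hM.map _, ?_, r, s, hs, hμ, ?_⟩
  · rw [← hspan, Submodule.map_span]; rfl
  · ext x
    constructor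
    · rintro ⟨_, ⟨y, hy, rfl⟩, rfl⟩
      have : tw F r s y ∈ im (tw F r s) M := ⟨y, hy, rfl⟩
      rw [h] at this
      exact ⟨_, this, htw y⟩
    · rintro ⟨y, hy, rfl⟩
      rw [← h] at hy
      obtain ⟨z, hz, rfl⟩ := hy
      exact ⟨_, ⟨z, hz, rfl⟩, (htw z).symm⟩

theorem map_slopePart_le {N' : Type w} [AddCommGroup N'] [Module (WittVector p k) N']
    [Module K(p, k) N'] [IsScalarTower (WittVector p k) K(p, k) N'] [Module.Finite K(p, k) N]
    {F : N →ₛₗ[frob p k a] N}
    {F' : N' →ₛₗ[frob p k a] N'} (f : N →ₗ[K(p, k)] N') (hf : ∀ x, f (F x) = F' (f x)) (μ : ℚ) :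
    (slopePart F μ).map f ≤ slopePart F' μ := by
  obtain ⟨h1, h2⟩ := slopePart_spec F μ
  refine le_slopePart ?_ (h2.map' f hf)
  rintro _ ⟨x, hx, rfl⟩
  exact ⟨F x, h1 x hx, hf x⟩

theorem std_tw_single (d : ℤ) {h : ℕ} (i : Fin h) :
    tw (stdIsoc (frob p k a) d h) d h (Pi.single i 1) = Pi.single i 1 := by
  rw [tw_eq_iff]
  obtain ⟨n, rfl⟩ : ∃ n, h = n + 1 := ⟨h - 1, by have := i.2; omega⟩
  have h0 : (⇑(stdIsoc (frob p k a) d (n + 1)))^[n + 1] (Pi.single 0 1) =
      ((p : K(p, k)) ^ d) • Pi.single 0 1 := by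
    rw [Function.iterate_succ_apply', K797.Lat.stdIsoc_iter_zero p k _ d n n (by omega)]
    have h2 := K797.Lat.stdIsoc_single_last p k (frob p k a) d n 1
    rw [map_one, mul_one] at h2
    refine h2.trans ?_
    rw [← Pi.single_smul, smul_eq_mul, mul_one]
  have h2 := K797.Lat.stdIsoc_iter_zero p k (frob p k a) d n i.val i.2
  have h3 : (Pi.single i 1 : Fin (n + 1) → K(p, k)) =
      (⇑(stdIsoc (frob p k a) d (n + 1)))^[i.val] (Pi.single 0 1) := h2.symm
  rw [h3, ← Function.iterate_add_apply, add_comm (n + 1) i.val, Function.iterate_add_apply, h0,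
    iter_zpow_smul]

/-- the standard isocrystal is isoclinic -/
theorem isoclOn_std (d : ℤ) {h : ℕ} (hh : 0 < h) :
    IsoclOn (stdIsoc (frob p k a) d h) ⊤ ((d : ℚ) / h) := by
  refine ⟨K797.Lat.stdLat p k h, Submodule.fg_span (Set.finite_range _), ?_, d, h, hh, rfl, ?_⟩
  · unfold K797.Lat.stdLat
    rw [Submodule.span_span_of_tower]
    have := (Pi.basisFun K(p, k) (Fin h)).span_eq
    rw [← this]
    congr 2
    funext i
    exact (Pi.basisFun_apply K(p, k) (Fin h) i).symm
  · unfold K797.Lat.stdLat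
    rw [im, Submodule.map_span]
    congr 1
    rw [← Set.range_comp]
    congr 1
    funext i
    exact std_tw_single d i

theorem newton_std (d : ℤ) {h : ℕ} (hh : 0 < h) (μ : ℚ) :
    slopePart (stdIsoc (frob p k a) d h) μ = if (d : ℚ) / h = μ then ⊤ else ⊥ := by
  have htop : slopePart (stdIsoc (frob p k a) d h) ((d : ℚ) / h) = ⊤ :=
    top_le_iff.1 (le_slopePart (fun _ _ => trivial) (isoclOn_std d hh))
  split_ifs with hμ
  · rw [← hμ]; exact htop
  · have hb := K797.Lat.stdIsoc_bijective p k a d h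
    have hind := iSupIndep_of_isoclOn (F := stdIsoc (frob p k a) d h) hb _
      fun μ => (slopePart_spec (stdIsoc (frob p k a) d h) μ).2
    have hd := hind.pairwiseDisjoint (Ne.symm hμ)
    have hd' : Disjoint (slopePart (stdIsoc (frob p k a) d h) μ)
      (slopePart (stdIsoc (frob p k a) d h) ((d : ℚ) / h)) := hd
    rw [htop] at hd'
    exact hd'.eq_bot_of_le le_top

/-- multiplicities from a decomposition into standard isocrystals -/
theorem newtonMult_eq [Module.Finite K(p, k) N] (F : N →ₛₗ[frob p k a] N) {t : ℕ} (d : Fin t → ℤ)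
    (h : Fin t → ℕ) (hh : ∀ i, 0 < h i)
    (e : N ≃ₗ[K(p, k)] ((i : Fin t) → (Fin (h i) → K(p, k))))
    (he : ∀ (x : N) (i : Fin t), e (F x) i = stdIsoc (frob p k a) (d i) (h i) (e x i)) (μ : ℚ) :
    newtonMult F μ = ∑ i : Fin t, (if ((d i : ℚ) / (h i : ℚ)) = μ then h i else 0) := by
  classical
  let T : (i : Fin t) → Submodule K(p, k) (Fin (h i) → K(p, k)) := fun i =>
    slopePart (stdIsoc (frob p k a) (d i) (h i)) μ
  have hproj : ∀ i, ∀ x ∈ slopePart F μ, e x i ∈ T i := by
    intro i x hx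
    exact map_slopePart_le (F := F) (F' := stdIsoc (frob p k a) (d i) (h i))
      ((LinearMap.proj i).comp e.toLinearMap) (fun x => he x i) μ ⟨x, hx, rfl⟩
  have hinc : ∀ i, ∀ v ∈ T i, e.symm (Pi.single i v) ∈ slopePart F μ := by
    intro i v hv
    let f : (Fin (h i) → K(p, k)) →ₗ[K(p, k)] N :=
      e.symm.toLinearMap.comp (LinearMap.single K(p, k) (fun i => Fin (h i) → K(p, k)) i)
    have hf : ∀ v, f v = e.symm (Pi.single i v) := fun v => rfl
    rw [← hf]
    refine map_slopePart_le (F := stdIsoc (frob p k a) (d i) (h i)) (F' := F) f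
      (fun v => ?_) μ ⟨v, hv, rfl⟩
    apply e.injective
    rw [hf, hf]
    rw [LinearEquiv.apply_symm_apply]
    funext j
    rw [he, LinearEquiv.apply_symm_apply]
    by_cases hij : j = i
    · subst hij; rw [Pi.single_eq_same, Pi.single_eq_same]
    · rw [Pi.single_eq_of_ne hij, Pi.single_eq_of_ne hij, map_zero]
  let g : slopePart F μ ≃ₗ[K(p, k)] ((i : Fin t) → T i) :=
    { toFun := fun x i => ⟨e x i, hproj i x x.2⟩
      map_add' := fun x y => by funext i; ext1; simp
      map_smul' := fun c x => by funext i; ext1; simp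
      invFun := fun v => ⟨e.symm (fun i => (v i : Fin (h i) → K(p, k))), by
        have : (fun i => (v i : Fin (h i) → K(p, k))) =
            ∑ i, Pi.single i (v i : Fin (h i) → K(p, k)) := (Finset.univ_sum_single _).symm
        rw [this, map_sum]
        exact Submodule.sum_mem _ fun i _ => hinc i _ (v i).2⟩
      left_inv := fun x => by ext1; exact e.symm_apply_apply _
      right_inv := fun v => by funext i; ext1; simp }
  rw [newtonMult, g.finrank_eq, Module.finrank_pi_fintype]
  refine Finset.sum_congr rfl fun i _ => ?_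
  show Module.finrank K(p, k) (slopePart (stdIsoc (frob p k a) (d i) (h i)) μ) = _
  rw [newton_std (d i) (hh i)]
  by_cases hi : (d i : ℚ) / (h i : ℚ) = μ
  · rw [if_pos hi, if_pos hi, finrank_top, Module.finrank_fin_fun]
  · rw [if_neg hi, if_neg hi, finrank_bot]

/-- **Classification** (Dieudonné–Manin) -/
theorem exists_equiv [IsAlgClosed k] (ha : a ≠ 0) (hS : StdSimple p k a) (n : ℕ) :
    ∀ (N : Type v) [AddCommGroup N] [Module (WittVector p k) N]
    [Module K(p, k) N] [IsScalarTower (WittVector p k) K(p, k) N] [Module.Finite K(p, k) N]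
    (F : N →ₛₗ[frob p k a] N), Function.Bijective F → Module.finrank K(p, k) N = n →
    ∃ (t : ℕ) (d : Fin t → ℤ) (h : Fin t → ℕ)
      (e : N ≃ₗ[K(p, k)] ((i : Fin t) → (Fin (h i) → K(p, k)))),
      (∀ i, 0 < h i ∧ Int.gcd (d i) (h i) = 1) ∧
      (∀ (x : N) (i : Fin t), e (F x) i = stdIsoc (frob p k a) (d i) (h i) (e x i)) := by
  induction n using Nat.strong_induction_on with
  | _ n ih =>
    intro N _ _ _ _ _ F hF hn
    rcases subsingleton_or_nontrivial N with hsub | hnt
    · refine ⟨0, Fin.elim0, Fin.elim0, LinearEquiv.ofSubsingleton _ _, fun i => i.elim0,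
        fun _ i => i.elim0⟩
    obtain ⟨d0, h0, x, hh0, hdh, hx, hx0⟩ := exists_standard ha F hF (Q := ⊥) bot_ne_top
    have hbot : ∀ y ∈ (⊥ : Submodule K(p, k) N), F y ∈ (⊥ : Submodule K(p, k) N) := by
      intro y hy
      rw [Submodule.mem_bot] at hy ⊢
      rw [hy, map_zero]
    set g := fx F h0 x with hg
    have hginj : ∀ v, g v = 0 → v = 0 := fun v hv =>
      fx_eq_zero hS hh0 hdh hx hbot hx0 (by rw [Submodule.mem_bot]; exact hv)
    obtain ⟨Q, hQ, hc⟩ := exists_isCompl ha hS F hF (fx_mem_range_stable hx)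
    have hQb := restrict_bijective hF (fx_mem_range_stable hx) hQ hc
    have hlt : Module.finrank K(p, k) Q < n := by
      rw [← hn]
      apply Submodule.finrank_lt
      intro htop
      rw [htop] at hc
      have h1 : LinearMap.range (fx F h0 x) = ⊥ := hc.disjoint.eq_bot_of_le le_top
      apply hx0
      rw [← h1]
      exact mem_range_fx hh0 x
    obtain ⟨t, d, h, eQ, hdh', he⟩ := ih _ hlt Q (F.restrict hQ) hQb rfl
    let h' : Fin (t + 1) → ℕ := Fin.cons h0 h
    let d' : Fin (t + 1) → ℤ := Fin.cons d0 d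
    let g' : (Fin (h' 0) → K(p, k)) →ₗ[K(p, k)] N := g
    let r : ((i : Fin (t + 1)) → (Fin (h' i) → K(p, k))) →ₗ[K(p, k)]
        ((i : Fin t) → (Fin (h i) → K(p, k))) :=
      LinearMap.pi fun i : Fin t => (LinearMap.proj i.succ :
        ((i : Fin (t + 1)) → (Fin (h' i) → K(p, k))) →ₗ[K(p, k)] (Fin (h' i.succ) → K(p, k)))
    let E : ((i : Fin (t + 1)) → (Fin (h' i) → K(p, k))) →ₗ[K(p, k)] N :=
      g'.comp (LinearMap.proj 0) + Q.subtype.comp (eQ.symm.toLinearMap.comp r)
    have hE : ∀ w, E w = g (w 0) + (eQ.symm (fun i => w i.succ) : Q) := fun w => rfl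
    have hEinj : Function.Injective E := by
      rw [injective_iff_map_eq_zero]
      intro w hw
      rw [hE] at hw
      have h1 : g (w 0) ∈ Q := by
        rw [add_eq_zero_iff_eq_neg.1 hw]
        exact Q.neg_mem (eQ.symm _).2
      have h2 : g (w 0) = 0 := Submodule.disjoint_def.1 hc.disjoint _ ⟨w 0, rfl⟩ h1
      have h3 : w 0 = 0 := hginj _ h2
      rw [h2, zero_add] at hw
      have h4 : eQ.symm (fun i => w i.succ) = 0 := Subtype.ext hw
      have h5 : (fun i : Fin t => w i.succ) = 0 := by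
        rwa [LinearEquiv.map_eq_zero_iff] at h4
      funext i
      refine Fin.cases ?_ (fun j => ?_) i
      · exact h3
      · exact congrFun h5 j
    have hEsurj : Function.Surjective E := by
      intro y
      have hy : y ∈ LinearMap.range (fx F h0 x) ⊔ Q := by rw [hc.sup_eq_top]; trivial
      obtain ⟨_, ⟨v, rfl⟩, z, hz, rfl⟩ := Submodule.mem_sup.1 hy
      refine ⟨Fin.cons (α := fun i => Fin (h' i) → K(p, k)) v (eQ ⟨z, hz⟩), ?_⟩
      rw [hE]
      have h1 : (fun i : Fin t => Fin.cons (α := fun i => Fin (h' i) → K(p, k)) v (eQ ⟨z, hz⟩)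
        i.succ) = eQ ⟨z, hz⟩ := rfl
      rw [h1, LinearEquiv.symm_apply_apply]
      rfl
    let e := (LinearEquiv.ofBijective E ⟨hEinj, hEsurj⟩).symm
    have heE : ∀ w, e (E w) = w := fun w =>
      (LinearEquiv.ofBijective E ⟨hEinj, hEsurj⟩).symm_apply_apply w
    refine ⟨t + 1, d', h', e, fun i => ?_, fun y i => ?_⟩
    · refine Fin.cases ?_ (fun j => ?_) i
      · exact ⟨hh0, hdh⟩
      · exact hdh' j
    · obtain ⟨w, rfl⟩ := hEsurj y
      have key : F (E w) = E (fun i => stdIsoc (frob p k a) (d' i) (h' i) (w i)) := by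
        rw [hE, hE, map_add]
        have h1 : g (stdIsoc (frob p k a) (d' 0) (h' 0) (w 0)) = F (g (w 0)) := fx_stdIsoc hx _
        have h2 : eQ.symm (fun i : Fin t => stdIsoc (frob p k a) (d' i.succ) (h' i.succ) (w i.succ)) =
            F.restrict hQ (eQ.symm (fun i => w i.succ)) := by
          rw [LinearEquiv.symm_apply_eq]
          funext i
          rw [he, LinearEquiv.apply_symm_apply]
          rfl
        rw [h1, h2]
        rfl
      rw [key, heE, heE]

end K773.Isoc
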