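import Groth.Agent.Isoc.K773.Slope
import Mathlib.LinearAlgebra.DFinsupp
import Mathlib.Algebra.DirectSum.Module
import Mathlib.Data.Finset.Max

/-!
# The slope decomposition
-/

set_option autoImplicit false
universe u v

namespace K773.Isoc

open _root_.Isoc
open scoped Pointwise Isocrystal

variable {p : ℕ} [Fact p.Prime] {k : Type u} [Field k] [CharP k p] [PerfectRing k p]
variable {N : Type v} [AddCommGroup N] [Module (WittVector p k) N] [Module K(p, k) N]
  [IsScalarTower (WittVector p k) K(p, k) N]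
variable {a : ℤ}

/-- external form of "`P` is isoclinic of slope `μ`" -/
def IsoclOn (F : N →ₛₗ[frob p k a] N) (P : Submodule K(p, k) N) (μ : ℚ) : Prop :=
  ∃ M : Submodule (WittVector p k) N, M.FG ∧ Submodule.span K(p, k) (M : Set N) = P ∧
    ∃ (r : ℤ) (s : ℕ), 0 < s ∧ (r : ℚ) / s = μ ∧ im (tw F r s) M = M

theorem iter_restrict {P : Submodule K(p, k) N} {F : N →ₛₗ[frob p k a] N} (hP : ∀ x ∈ P, F x ∈ P)
    (n : ℕ) (x : P) : ((⇑(F.restrict hP))^[n] x : N) = (⇑F)^[n] (x : N) := by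
  induction n with
  | zero => rfl
  | succ n ih => rw [Function.iterate_succ_apply', Function.iterate_succ_apply', ← ih]; rfl

theorem tw_restrict {P : Submodule K(p, k) N} {F : N →ₛₗ[frob p k a] N} (hP : ∀ x ∈ P, F x ∈ P)
    (r : ℤ) (s : ℕ) (x : P) : (tw (F.restrict hP) r s x : N) = tw F r s (x : N) := by
  rw [tw_apply, tw_apply, Submodule.coe_smul, iter_restrict]

/-- the inclusion of a subspace, `W`-linear -/
noncomputable def incW (P : Submodule K(p, k) N) : P →ₗ[WittVector p k] N :=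
  P.subtype.restrictScalars (WittVector p k)

omit [CharP k p] [PerfectRing k p] in
@[simp] theorem incW_apply (P : Submodule K(p, k) N) (x : P) : incW P x = x := rfl

theorem im_map_incW {P : Submodule K(p, k) N} {F : N →ₛₗ[frob p k a] N} (hP : ∀ x ∈ P, F x ∈ P)
    (r : ℤ) (s : ℕ) (M : Submodule (WittVector p k) P) :
    im (tw F r s) (M.map (incW P)) = (im (tw (F.restrict hP) r s) M).map (incW P) := by
  ext x
  constructor
  · rintro ⟨_, ⟨y, hy, rfl⟩, rfl⟩
    exact ⟨tw (F.restrict hP) r s y, ⟨y, hy, rfl⟩, tw_restrict hP r s y⟩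
  · rintro ⟨_, ⟨y, hy, rfl⟩, rfl⟩
    exact ⟨y, ⟨y, hy, rfl⟩, (tw_restrict hP r s y).symm⟩

theorem span_map_incW {P : Submodule K(p, k) N} (M : Submodule (WittVector p k) P) :
    Submodule.span K(p, k) ((M.map (incW P) : Submodule (WittVector p k) N) : Set N) =
      (Submodule.span K(p, k) (M : Set P)).map P.subtype := by
  rw [Submodule.map_span]; rfl

theorem isIsoclinic_restrict_iff {P : Submodule K(p, k) N} {F : N →ₛₗ[frob p k a] N}
    (hP : ∀ x ∈ P, F x ∈ P) {μ : ℚ} : IsIsoclinic (F.restrict hP) μ ↔ IsoclOn F P μ := by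
  have hinj : Function.Injective (incW P) := Subtype.val_injective
  constructor
  · rintro ⟨M, hM, r, s, hs, hμ, h⟩
    rw [latImg_eq_iff] at h
    refine ⟨M.map (incW P), hM.fg.map _, ?_, r, s, hs, hμ, ?_⟩
    · rw [span_map_incW, hM.span_eq_top, Submodule.map_top, Submodule.range_subtype]
    · rw [im_map_incW hP, h]
  · rintro ⟨M, hM, hspan, r, s, hs, hμ, h⟩
    have hMP : ∀ x ∈ M, x ∈ P := fun x hx => by rw [← hspan]; exact Submodule.subset_span hx
    have hmap : (M.comap (incW P)).map (incW P) = M :=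
      Submodule.map_comap_eq_of_le (fun x hx => ⟨⟨x, hMP x hx⟩, rfl⟩)
    refine ⟨M.comap (incW P), ⟨?_, ?_⟩, r, s, hs, hμ, latImg_eq_iff.2 ?_⟩
    · refine Submodule.fg_of_fg_map_injective (incW P) hinj ?_
      rwa [hmap]
    · apply Submodule.map_injective_of_injective (f := P.subtype) Subtype.val_injective
      rw [← span_map_incW, hmap, hspan, Submodule.map_top, Submodule.range_subtype]
    · apply Submodule.map_injective_of_injective hinj
      rw [← im_map_incW hP, hmap, h]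

theorem isIsoclinic_iff {F : N →ₛₗ[frob p k a] N} {μ : ℚ} :
    IsIsoclinic F μ ↔ IsoclOn F ⊤ μ := by
  constructor
  · rintro ⟨M, hM, r, s, hs, hμ, h⟩
    exact ⟨M, hM.fg, hM.span_eq_top, r, s, hs, hμ, latImg_eq_iff.1 h⟩
  · rintro ⟨M, hM, hspan, r, s, hs, hμ, h⟩
    exact ⟨M, ⟨hM, hspan⟩, r, s, hs, hμ, latImg_eq_iff.2 h⟩

/-- if `s` is a denominator of `r'/s'` ... : change of the exponents -/
theorem exponents_eq {r r' : ℤ} {s s' : ℕ} (hs : 0 < s) (hs' : 0 < s') {μ : ℚ}
    (h : (r : ℚ) / s = μ) (h' : (r' : ℚ) / s' = μ) : r * s' = r' * s := by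
  have h1 : (s : ℚ) ≠ 0 := by positivity
  have h2 : (s' : ℚ) ≠ 0 := by positivity
  rw [div_eq_iff h1] at h
  rw [div_eq_iff h2] at h'
  have : (r : ℚ) * s' = r' * s := by rw [h, h']; ring
  exact_mod_cast this

theorem IsoclOn.sup {F : N →ₛₗ[frob p k a] N} {P Q : Submodule K(p, k) N} {μ : ℚ}
    (hP : IsoclOn F P μ) (hQ : IsoclOn F Q μ) : IsoclOn F (P ⊔ Q) μ := by
  obtain ⟨M, hM, hspan, r, s, hs, hμ, h⟩ := hP
  obtain ⟨M', hM', hspan', r', s', hs', hμ', h'⟩ := hQ
  refine ⟨M ⊔ M', hM.sup hM', ?_, r * s', s * s', by positivity, ?_, ?_⟩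
  · rw [← hspan, ← hspan']
    apply le_antisymm
    · rw [Submodule.span_le]
      rintro x hx
      obtain ⟨y, hy, z, hz, rfl⟩ := Submodule.mem_sup.1 hx
      exact Submodule.add_mem_sup (Submodule.subset_span hy) (Submodule.subset_span hz)
    · exact sup_le (Submodule.span_mono fun x hx => Submodule.mem_sup_left hx)
        (Submodule.span_mono fun x hx => Submodule.mem_sup_right hx)
  · rw [← hμ]
    have h1 : (s : ℚ) ≠ 0 := by positivity
    have h2 : (s' : ℚ) ≠ 0 := by positivity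
    push_cast
    field_simp
  · have e : r * s' = r' * s := exponents_eq hs hs' hμ hμ'
    have h1 := im_iter_eq h s'
    have h2 := im_iter_eq h' s
    rw [im_sup, h1, e, mul_comm s s', h2]

theorem IsoclOn.bot (F : N →ₛₗ[frob p k a] N) (μ : ℚ) : IsoclOn F ⊥ μ :=
  ⟨⊥, Submodule.fg_bot, by simp, μ.num, μ.den, μ.pos, Rat.num_div_den μ, by
    rw [im, Submodule.map_bot]⟩

theorem IsoclOn.mono {F : N →ₛₗ[frob p k a] N} {P Q : Submodule K(p, k) N} {μ : ℚ} (hP : IsoclOn F P μ)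
    (hQP : Q ≤ P) (hQ : ∀ x, x ∈ Q ↔ F x ∈ Q) : IsoclOn F Q μ := by
  obtain ⟨M, hM, hspan, r, s, hs, hμ, h⟩ := hP
  have hmem : ∀ x, x ∈ Q ↔ tw F r s x ∈ Q := by
    have h1 : ∀ (n : ℕ) (x : N), x ∈ Q ↔ (⇑F)^[n] x ∈ Q := by
      intro n
      induction n with
      | zero => intro x; rfl
      | succ n ih => intro x; rw [ih, hQ, Function.iterate_succ_apply']
    intro x
    rw [h1 s, tw_apply]
    constructor
    · exact fun hx => Q.smul_mem _ hx
    · intro hx
      have := Q.smul_mem ((p : K(p, k)) ^ r) hx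
      rwa [zpow_smul_smul, add_neg_cancel, zpow_zero, one_smul] at this
  refine ⟨M ⊓ Q.restrictScalars (WittVector p k), fg_of_le hM inf_le_left, ?_, r, s, hs, hμ, ?_⟩
  · apply le_antisymm
    · rw [Submodule.span_le]
      exact fun x hx => hx.2
    · intro x hx
      have hx' : x ∈ Submodule.span K(p, k) (M : Set N) := by rw [hspan]; exact hQP hx
      obtain ⟨e, he⟩ := exists_zpow_smul_mem hx'
      have h1 := Submodule.smul_mem (Submodule.span K(p, k)
        ((M ⊓ Q.restrictScalars (WittVector p k) : Submodule (WittVector p k) N) : Set N))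
        ((p : K(p, k)) ^ (-(e : ℤ))) (Submodule.subset_span ⟨he, Q.smul_mem _ hx⟩)
      rwa [zpow_smul_smul, neg_add_cancel, zpow_zero, one_smul] at h1
  · apply le_antisymm
    · rintro _ ⟨x, hx, rfl⟩
      refine ⟨?_, (hmem x).1 hx.2⟩
      have : tw F r s x ∈ im (tw F r s) M := ⟨x, hx.1, rfl⟩
      rwa [h] at this
    · rintro y ⟨hy, hyQ⟩
      have hy' : y ∈ im (tw F r s) M := by rw [h]; exact hy
      obtain ⟨x, hx, rfl⟩ := hy'
      exact ⟨x, ⟨hx, (hmem x).2 hyQ⟩, rfl⟩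

theorem slopePart_eq_sSup (F : N →ₛₗ[frob p k a] N) (μ : ℚ) :
    slopePart F μ = sSup {P | (∀ x ∈ P, F x ∈ P) ∧ IsoclOn F P μ} := by
  rw [slopePart]
  congr 1
  ext P
  constructor
  · rintro ⟨hP, h⟩
    exact ⟨hP, (isIsoclinic_restrict_iff hP).1 h⟩
  · rintro ⟨hP, h⟩
    exact ⟨hP, (isIsoclinic_restrict_iff hP).2 h⟩

theorem le_slopePart {F : N →ₛₗ[frob p k a] N} {μ : ℚ} {P : Submodule K(p, k) N}
    (hP : ∀ x ∈ P, F x ∈ P) (h : IsoclOn F P μ) : P ≤ slopePart F μ := by
  rw [slopePart_eq_sSup]; exact le_sSup ⟨hP, h⟩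

/-- the slope part is stable and isoclinic -/
theorem slopePart_spec [Module.Finite K(p, k) N] (F : N →ₛₗ[frob p k a] N) (μ : ℚ) :
    (∀ x ∈ slopePart F μ, F x ∈ slopePart F μ) ∧ IsoclOn F (slopePart F μ) μ := by
  set X0 : Set (Submodule K(p, k) N) := {P | (∀ x ∈ P, F x ∈ P) ∧ IsoclOn F P μ} with hXdef
  have hne : X0.Nonempty := ⟨⊥, fun x hx => by
    rw [Submodule.mem_bot] at hx; rw [hx, map_zero]; exact Submodule.zero_mem _, IsoclOn.bot F μ⟩
  obtain ⟨P0, hP0, hmax⟩ := WellFounded.has_min (wellFounded_gt (α := Submodule K(p, k) N)) X0 hne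
  have hsup : ∀ P ∈ X0, P ≤ P0 := by
    intro P hP
    have h1 : P0 ⊔ P ∈ X0 := ⟨fun x hx => by
      obtain ⟨y, hy, z, hz, rfl⟩ := Submodule.mem_sup.1 hx
      rw [map_add]
      exact Submodule.add_mem_sup (hP0.1 y hy) (hP.1 z hz), hP0.2.sup hP.2⟩
    by_contra hcon
    exact hmax _ h1 (lt_of_le_of_ne le_sup_left fun he => hcon (he ▸ le_sup_right))
  have heq : slopePart F μ = P0 := by
    rw [slopePart_eq_sSup]
    exact le_antisymm (sSup_le hsup) (le_sSup hP0)
  rw [heq]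
  exact hP0

/-! ### independence -/

theorem exists_common {F : N →ₛₗ[frob p k a] N} (s : Finset ℚ)
    (P : ℚ → Submodule K(p, k) N) (hP : ∀ μ ∈ s, IsoclOn F (P μ) μ) :
    ∃ S : ℕ, 0 < S ∧ ∀ μ ∈ s, ∃ (R : ℤ) (M : Submodule (WittVector p k) N), (R : ℚ) = μ * S ∧
      M.FG ∧ Submodule.span K(p, k) (M : Set N) = P μ ∧ im (tw F R S) M = M := by
  induction s using Finset.induction_on with
  | empty => exact ⟨1, one_pos, fun μ hμ => absurd hμ (Finset.notMem_empty μ)⟩
  | insert μ0 s _ ih =>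
    obtain ⟨S, hS, h⟩ := ih fun μ hμ => hP μ (Finset.mem_insert_of_mem hμ)
    obtain ⟨M0, hM0, hspan0, r0, s0, hs0, hμ0, h0⟩ := hP μ0 (Finset.mem_insert_self _ _)
    refine ⟨S * s0, by positivity, fun μ hμ => ?_⟩
    rcases Finset.mem_insert.1 hμ with rfl | hμ
    · refine ⟨r0 * S, M0, ?_, hM0, hspan0, ?_⟩
      · rw [← hμ0]
        have h1 : (s0 : ℚ) ≠ 0 := by positivity
        push_cast
        field_simp
      · rw [mul_comm S s0]; exact im_iter_eq h0 S
    · obtain ⟨R, M, hR, hM, hspan, him⟩ := h μ hμ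
      refine ⟨R * s0, M, ?_, hM, hspan, im_iter_eq him s0⟩
      push_cast
      rw [hR]; ring

theorem disjoint_min {F : N →ₛₗ[frob p k a] N} (hF : Function.Bijective F) (s : Finset ℚ)
    (μ0 : ℚ) (hμ0 : ∀ μ ∈ s, μ0 < μ)
    (P : ℚ → Submodule K(p, k) N) (hP : ∀ μ ∈ insert μ0 s, IsoclOn F (P μ) μ) :
    Disjoint (P μ0) (⨆ μ ∈ s, P μ) := by
  obtain ⟨S, hS, h⟩ := exists_common (insert μ0 s) P hP
  choose! R M hR hM hspan him using h
  have hmem0 := Finset.mem_insert_self μ0 s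
  set Ψ := tw F (R μ0) S with hΨ
  let M' : Submodule (WittVector p k) N := ⨆ μ ∈ insert μ0 s, M μ
  have hM' : M'.FG := Submodule.fg_biSup _ _ hM
  have hRle : ∀ μ ∈ s, R μ0 + 1 ≤ R μ := by
    intro μ hμ
    have h1 : (R μ0 : ℚ) < R μ := by
      rw [hR _ hmem0, hR _ (Finset.mem_insert_of_mem hμ)]
      exact mul_lt_mul_of_pos_right (hμ0 μ hμ) (by positivity)
    have : R μ0 < R μ := by exact_mod_cast h1
    omega
  have htw : ∀ (μ : ℚ) (n : ℕ) (x : N), (⇑Ψ)^[n] x =
      ((p : K(p, k)) ^ ((R μ - R μ0) * n)) • (⇑(tw F (R μ) S))^[n] x := by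
    intro μ n x
    rw [hΨ, tw_iter, tw_iter, zpow_smul_smul]
    congr 2; ring
  have hiter : ∀ μ ∈ insert μ0 s, ∀ (n : ℕ), ∀ x ∈ M μ, (⇑(tw F (R μ) S))^[n] x ∈ M μ := by
    intro μ hμ n x hx
    refine iter_mem (fun y hy => ?_) n hx
    have : tw F (R μ) S y ∈ im (tw F (R μ) S) (M μ) := ⟨y, hy, rfl⟩
    rwa [him μ hμ] at this
  have hst : ∀ x ∈ M', Ψ x ∈ M' := by
    have h1 : M' ≤ M'.comap (resW Ψ) := by
      refine iSup₂_le fun μ hμ x hx => ?_
      show Ψ x ∈ M'
      have h2 := htw μ 1 x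
      rw [Function.iterate_one, Function.iterate_one] at h2
      rw [h2]
      refine Submodule.mem_iSup_of_mem μ (Submodule.mem_iSup_of_mem hμ ?_)
      refine zpow_smul_mem_of_le ?_ (hiter μ hμ 1 x hx)
      rcases Finset.mem_insert.1 hμ with rfl | hμs
      · simp
      · have := hRle μ hμs
        push_cast; linarith
    exact h1
  have hdisj := disjoint_span_sp_nilp (Ψ := Ψ) (tw_bijective F hF _ _).1 hst hM'
  refine hdisj.mono ?_ ?_
  · rw [← hspan μ0 hmem0]
    refine Submodule.span_mono fun x hx => ?_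
    refine mem_sp.2 fun j => ?_
    have : ∀ j : ℕ, ∀ x ∈ M μ0, ∃ y ∈ M μ0, (⇑Ψ)^[j] y = x := by
      intro j
      induction j with
      | zero => intro x hx; exact ⟨x, hx, rfl⟩
      | succ j ih =>
        intro x hx
        rw [← him μ0 hmem0] at hx
        obtain ⟨y, hy, rfl⟩ := hx
        obtain ⟨z, hz, rfl⟩ := ih y hy
        exact ⟨z, hz, Function.iterate_succ_apply' _ _ _⟩
    obtain ⟨y, hy, hyx⟩ := this j x hx
    exact ⟨y, Submodule.mem_iSup_of_mem μ0 (Submodule.mem_iSup_of_mem hmem0 hy), hyx⟩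
  · refine iSup₂_le fun μ hμ => ?_
    rw [← hspan μ (Finset.mem_insert_of_mem hμ), Submodule.span_le]
    intro x hx
    refine (mem_nilp' hst).2 fun e => ⟨e, ?_⟩
    rw [htw μ e x, mem_pPow', zpow_smul_smul]
    refine Submodule.mem_iSup_of_mem μ (Submodule.mem_iSup_of_mem (Finset.mem_insert_of_mem hμ) ?_)
    refine zpow_smul_mem_of_le ?_ (hiter μ (Finset.mem_insert_of_mem hμ) e x hx)
    have := hRle μ hμ
    nlinarith [Int.natCast_nonneg e]

theorem iSupIndep_of_isoclOn {F : N →ₛₗ[frob p k a] N} (hF : Function.Bijective F)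
    (P : ℚ → Submodule K(p, k) N) (hP : ∀ μ, IsoclOn F (P μ) μ) : iSupIndep P := by
  rw [iSupIndep_iff_finsetSum_eq_zero_imp_eq_zero]
  intro s
  induction s using Finset.induction_on_min with
  | empty => intro v _ _ i hi; exact absurd hi (Finset.notMem_empty i)
  | insert μ0 s hlt ih =>
    intro v hv h
    have hnot : μ0 ∉ s := fun hmem => lt_irrefl _ (hlt μ0 hmem)
    rw [Finset.sum_insert hnot] at h
    have hd := disjoint_min hF s μ0 hlt P fun μ _ => hP μ
    have h1 : v μ0 ∈ ⨆ μ ∈ s, P μ := by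
      rw [add_eq_zero_iff_eq_neg.1 h]
      exact Submodule.neg_mem _ (Submodule.sum_mem_biSup fun μ hμ =>
        hv μ (Finset.mem_insert_of_mem hμ))
    have h0 : v μ0 = 0 := Submodule.disjoint_def.1 hd _ (hv μ0 (Finset.mem_insert_self _ _)) h1
    rw [h0, zero_add] at h
    intro i hi
    rcases Finset.mem_insert.1 hi with rfl | hi
    · exact h0
    · exact ih v (fun j hj => hv j (Finset.mem_insert_of_mem hj)) h i hi

/-! ### the slope parts generate -/

theorem restrict_bijective {F : N →ₛₗ[frob p k a] N} (hF : Function.Bijective F)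
    {P Q : Submodule K(p, k) N} (hP : ∀ x ∈ P, F x ∈ P) (hQ : ∀ x ∈ Q, F x ∈ Q)
    (h : IsCompl P Q) : Function.Bijective (F.restrict hQ) := by
  constructor
  · intro x y hxy
    exact Subtype.ext (hF.1 (congrArg Subtype.val hxy))
  · rintro ⟨y, hy⟩
    obtain ⟨x, hx⟩ := hF.2 y
    have hxt : x ∈ P ⊔ Q := by rw [h.sup_eq_top]; trivial
    obtain ⟨x1, hx1, x2, hx2, rfl⟩ := Submodule.mem_sup.1 hxt
    rw [map_add] at hx
    have h1 : F x1 ∈ Q := by
      have := Q.sub_mem hy (hQ x2 hx2)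
      rwa [← hx, add_sub_cancel_right] at this
    have h2 : F x1 = 0 := Submodule.disjoint_def.1 h.disjoint _ (hP x1 hx1) h1
    refine ⟨⟨x2, hx2⟩, Subtype.ext ?_⟩
    rw [h2, zero_add] at hx
    exact hx

theorem isoclOn_map {Q : Submodule K(p, k) N} {F : N →ₛₗ[frob p k a] N} (hQ : ∀ x ∈ Q, F x ∈ Q)
    {P : Submodule K(p, k) Q} {μ : ℚ} (h : IsoclOn (F.restrict hQ) P μ) :
    IsoclOn F (P.map Q.subtype) μ := by
  obtain ⟨M, hM, hspan, r, s, hs, hμ, h⟩ := h
  exact ⟨M.map (incW Q), hM.map _, by rw [span_map_incW, hspan], r, s, hs, hμ, by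
    rw [im_map_incW hQ, h]⟩

theorem iSup_slopePart_eq_top (n : ℕ) : ∀ (N : Type v) [AddCommGroup N] [Module (WittVector p k) N]
    [Module K(p, k) N] [IsScalarTower (WittVector p k) K(p, k) N] [Module.Finite K(p, k) N]
    (F : N →ₛₗ[frob p k a] N), Function.Bijective F → Module.finrank K(p, k) N = n →
    ⨆ μ, slopePart F μ = ⊤ := by
  induction n using Nat.strong_induction_on with
  | _ n ih =>
    intro N _ _ _ _ _ F hF hn
    rcases subsingleton_or_nontrivial N with hsub | hnt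
    · exact Subsingleton.elim _ _
    obtain ⟨r, s, M, hs, hM, hst, hnil⟩ := exists_first_slope F hF
    set Ψ := tw F r s with hΨ
    have hΨb : Function.Bijective Ψ := tw_bijective F hF r s
    have hcomm : ∀ x, F (Ψ x) = Ψ (F x) := by
      intro x
      rw [hΨ, tw_apply, tw_apply, map_zpow_smul, ← Function.iterate_succ_apply' (⇑F),
        Function.iterate_succ_apply]
    have hcompl := isCompl_fitting hΨb hM hst
    set P1 := Submodule.span K(p, k) (sp Ψ M : Set N) with hP1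
    set P2 := nilp Ψ M with hP2
    have hP1s : ∀ x ∈ P1, F x ∈ P1 := fun x hx => map_mem_span_sp hcomm hM hx
    have hP2s : ∀ x ∈ P2, F x ∈ P2 := fun x hx => map_mem_nilp hcomm hM hx
    have hP1i : IsoclOn F P1 ((r : ℚ) / s) :=
      ⟨sp Ψ M, fg_of_le hM.fg sp_le, rfl, r, s, hs, rfl, im_sp_eq hΨb.1 hst⟩
    have hP1le : P1 ≤ ⨆ μ, slopePart F μ := (le_slopePart hP1s hP1i).trans (le_iSup _ _)
    have hP1ne : P1 ≠ ⊥ := by
      intro h0
      apply sp_ne_bot hΨb hM hst hnil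
      rw [hP1, Submodule.span_eq_bot] at h0
      exact (Submodule.eq_bot_iff _).2 fun x hx => h0 x hx
    have hlt : Module.finrank K(p, k) P2 < n := by
      rw [← hn]
      apply Submodule.finrank_lt
      intro htop
      apply hP1ne
      rw [htop] at hcompl
      exact hcompl.disjoint.eq_bot_of_le le_top
    have h2 := ih _ hlt P2 (F.restrict hP2s) (restrict_bijective hF hP1s hP2s hcompl) rfl
    have hP2le : P2 ≤ ⨆ μ, slopePart F μ := by
      have h3 : P2 = (⊤ : Submodule K(p, k) P2).map P2.subtype := by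
        rw [Submodule.map_top, Submodule.range_subtype]
      rw [h3, ← h2, Submodule.map_iSup]
      refine iSup_mono fun μ => ?_
      obtain ⟨h4, h5⟩ := slopePart_spec (F.restrict hP2s) μ
      refine le_slopePart ?_ (isoclOn_map hP2s h5)
      rintro _ ⟨x, hx, rfl⟩
      exact ⟨F.restrict hP2s x, h4 x hx, rfl⟩
    rw [eq_top_iff, ← hcompl.sup_eq_top]
    exact sup_le hP1le hP2le

/-- **The slope decomposition**. -/
theorem isInternal_slopePart [Module.Finite K(p, k) N] (F : N →ₛₗ[frob p k a] N)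
    (hF : Function.Bijective F) : DirectSum.IsInternal (fun μ : ℚ => slopePart F μ) :=
  DirectSum.isInternal_submodule_of_iSupIndep_of_iSup_eq_top
    (iSupIndep_of_isoclOn hF _ fun μ => (slopePart_spec F μ).2)
    (iSup_slopePart_eq_top _ N F hF rfl)

end K773.Isoc
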