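import Groth.Agent.Isoc.K773.Chain

/-!
# Fitting decomposition of a semilinear endomorphism of a `W`-lattice

`Ψ : N → N` a bijective `σ^b`-semilinear map with `Ψ(M) ⊆ M`.  Then `N = P₁ ⊕ P₂` with `P₁` the span of
`A = ⋂ Ψ^j(M)`, on which `Ψ` is bijective, and `P₂` the set of `x` with `Ψ^n x → 0`.
-/

set_option autoImplicit false
universe u v

namespace K773.Isoc

open _root_.Isoc
open scoped Pointwise Isocrystal

variable {p : ℕ} [Fact p.Prime] {k : Type u} [Field k] [CharP k p] [PerfectRing k p]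
variable {N : Type v} [AddCommGroup N] [Module (WittVector p k) N] [Module K(p, k) N]
  [IsScalarTower (WittVector p k) K(p, k) N]
variable {b : ℤ}

instance isNoetherian_of_finite (M : Submodule (WittVector p k) N) [Module.Finite (WittVector p k) M] :
    IsNoetherian (WittVector p k) M := inferInstance

theorem fg_of_le {M M' : Submodule (WittVector p k) N} (hM : M.FG) (h : M' ≤ M) : M'.FG := by
  have hfin : Module.Finite (WittVector p k) M := Module.Finite.iff_fg.2 hM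
  have : IsNoetherian (WittVector p k) M := inferInstance
  have : IsNoetherian (WittVector p k) M' := isNoetherian_of_le h
  exact Module.Finite.iff_fg.1 inferInstance

theorem exists_zpow_mul_algebraMap (c : K(p, k)) : ∃ (f : ℕ) (w : WittVector p k),
    c = (p : K(p, k)) ^ (-(f : ℤ)) * algebraMap (WittVector p k) K(p, k) w := by
  obtain ⟨w, d, hd, rfl⟩ := IsFractionRing.div_surjective (A := WittVector p k) c
  obtain ⟨n, u, hn⟩ := exists_eq_pow_mul d (nonZeroDivisors.ne_zero hd)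
  refine ⟨n, w * (u⁻¹ : (WittVector p k)ˣ), ?_⟩
  have hu : algebraMap (WittVector p k) K(p, k) (u : WittVector p k) ≠ 0 := fun h0 => u.ne_zero
    ((IsFractionRing.injective (WittVector p k) K(p, k)) (by rw [h0, map_zero]))
  have hu' : algebraMap (WittVector p k) K(p, k) ((u⁻¹ : (WittVector p k)ˣ) : WittVector p k) *
      algebraMap (WittVector p k) K(p, k) (u : WittVector p k) = 1 := by
    rw [← map_mul, Units.inv_mul, map_one]
  have hp := p_ne_zero (p := p) (k := k)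
  rw [hn, map_mul, map_mul, map_pow, map_natCast, eq_div_of_mul_eq hu hu', zpow_neg, zpow_natCast]
  field_simp

theorem mem_pPow_zero {M : Submodule (WittVector p k) N} {x : N} : x ∈ pPow 0 M ↔ x ∈ M := by
  rw [pPow_zero]

/-- the span of a lattice under the map is a lattice -/
theorem isLattice_im (Ψ : N →ₛₗ[frob p k b] N) (hΨ : Function.Surjective Ψ)
    {M : Submodule (WittVector p k) N} (hM : M.IsLattice K(p, k)) : (im Ψ M).IsLattice K(p, k) where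
  fg := im_fg Ψ hM.fg
  span_eq_top := by
    rw [eq_top_iff]
    rintro x -
    obtain ⟨y, rfl⟩ := hΨ x
    obtain ⟨e, he⟩ := exists_zpow_smul_mem (A := M) (x := y) (by rw [hM.span_eq_top]; trivial)
    have h1 : Ψ (((p : K(p, k)) ^ (e : ℤ)) • y) ∈ im Ψ M := ⟨_, he, rfl⟩
    rw [map_zpow_smul] at h1
    have h2 := Submodule.smul_mem (Submodule.span K(p, k) (im Ψ M : Set N)) ((p : K(p, k)) ^ (-(e : ℤ)))
      (Submodule.subset_span h1)
    rwa [zpow_smul_smul, neg_add_cancel, zpow_zero, one_smul] at h2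

theorem exists_bound (Ψ : N →ₛₗ[frob p k b] N) {M : Submodule (WittVector p k) N}
    (hM : M.IsLattice K(p, k)) : ∃ e : ℕ, ∀ x ∈ M, ((p : K(p, k)) ^ (e : ℤ)) • Ψ x ∈ M := by
  obtain ⟨e, he⟩ := exists_zpow_smul_le (A := M) (im_fg Ψ hM.fg)
    (fun x _ => by rw [hM.span_eq_top]; trivial)
  exact ⟨e, fun x hx => he _ ⟨x, hx, rfl⟩⟩

theorem exists_pPow_le_of_isLattice {A M : Submodule (WittVector p k) N} (hA : A.IsLattice K(p, k))
    (hM : M.FG) : ∃ e : ℕ, pPow e M ≤ A := by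
  obtain ⟨e, he⟩ := exists_zpow_smul_le (A := A) hM (fun x _ => by rw [hA.span_eq_top]; trivial)
  exact ⟨e, by rintro _ ⟨x, hx, rfl⟩; exact he x hx⟩

section Iter

variable {Ψ : N →ₛₗ[frob p k b] N} {M : Submodule (WittVector p k) N}

theorem iter_mem (h : ∀ x ∈ M, Ψ x ∈ M) (n : ℕ) {x : N} (hx : x ∈ M) : (⇑Ψ)^[n] x ∈ M := by
  induction n with
  | zero => exact hx
  | succ n ih => rw [Function.iterate_succ_apply']; exact h _ ih

theorem iter_mem_pPow (h : ∀ x ∈ M, Ψ x ∈ M) (n : ℕ) {r : ℤ} {x : N} (hx : x ∈ pPow r M) :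
    (⇑Ψ)^[n] x ∈ pPow r M := by
  obtain ⟨y, hy, rfl⟩ := mem_pPow.1 hx
  rw [iter_zpow_smul]
  exact mem_pPow.2 ⟨_, iter_mem h n hy, rfl⟩

theorem iter_sub' (Ψ : N →ₛₗ[frob p k b] N) (n : ℕ) (x y : N) :
    (⇑Ψ)^[n] (x - y) = (⇑Ψ)^[n] x - (⇑Ψ)^[n] y := (iter Ψ n).map_sub x y

end Iter

section Fitting

variable (Ψ : N →ₛₗ[frob p k b] N) (M : Submodule (WittVector p k) N)

/-- the stable part `⋂ Ψ^j(M)` -/
noncomputable def sp : Submodule (WittVector p k) N := ⨅ j : ℕ, latImg Ψ j M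

variable {Ψ M}

theorem mem_sp {x : N} : x ∈ sp Ψ M ↔ ∀ j : ℕ, ∃ y ∈ M, (⇑Ψ)^[j] y = x := by
  rw [sp, Submodule.mem_iInf]
  exact forall_congr' fun j => mem_latImg

theorem sp_le : sp Ψ M ≤ M := by
  intro x hx
  obtain ⟨y, hy, rfl⟩ := mem_sp.1 hx 0
  exact hy

theorem exists_mem_sp (hΨ : Function.Injective Ψ) {x : N} (hx : x ∈ sp Ψ M) :
    ∃ y ∈ sp Ψ M, Ψ y = x := by
  obtain ⟨y, hy, hyx⟩ := mem_sp.1 hx 1
  refine ⟨y, mem_sp.2 fun j => ?_, hyx⟩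
  obtain ⟨z, hz, hzx⟩ := mem_sp.1 hx (j + 1)
  refine ⟨z, hz, hΨ ?_⟩
  rw [← Function.iterate_succ_apply' (⇑Ψ), hzx, ← hyx]; rfl

theorem map_mem_sp (h : ∀ x ∈ M, Ψ x ∈ M) {x : N} (hx : x ∈ sp Ψ M) : Ψ x ∈ sp Ψ M := by
  refine mem_sp.2 fun j => ?_
  obtain ⟨y, hy, rfl⟩ := mem_sp.1 hx j
  exact ⟨Ψ y, h y hy, by rw [← Function.iterate_succ_apply (⇑Ψ), Function.iterate_succ_apply']⟩

theorem exists_iter_mem_sp (hΨ : Function.Injective Ψ) (n : ℕ) {x : N} (hx : x ∈ sp Ψ M) :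
    ∃ y ∈ sp Ψ M, (⇑Ψ)^[n] y = x := by
  induction n generalizing x with
  | zero => exact ⟨x, hx, rfl⟩
  | succ n ih =>
    obtain ⟨y, hy, rfl⟩ := exists_mem_sp hΨ hx
    obtain ⟨z, hz, rfl⟩ := ih hy
    exact ⟨z, hz, Function.iterate_succ_apply' _ _ _⟩

theorem im_sp_eq (hΨ : Function.Injective Ψ) (h : ∀ x ∈ M, Ψ x ∈ M) :
    im Ψ (sp Ψ M) = sp Ψ M := by
  apply le_antisymm
  · rintro _ ⟨x, hx, rfl⟩
    exact map_mem_sp h hx
  · intro x hx
    obtain ⟨y, hy, rfl⟩ := exists_mem_sp hΨ hx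
    exact ⟨y, hy, rfl⟩

variable (Ψ M) in
/-- the topologically nilpotent part -/
noncomputable def nilp : Submodule K(p, k) N where
  carrier := {x | ∀ e : ℕ, ∃ m : ℕ, ∀ n : ℕ, m ≤ n → (⇑Ψ)^[n] x ∈ pPow e M}
  add_mem' := by
    intro x y hx hy e
    obtain ⟨m, hm⟩ := hx e
    obtain ⟨m', hm'⟩ := hy e
    refine ⟨max m m', fun n hn => ?_⟩
    rw [iter_add']
    exact Submodule.add_mem _ (hm n (le_of_max_le_left hn)) (hm' n (le_of_max_le_right hn))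
  zero_mem' := fun e => ⟨0, fun n _ => by
    have : (⇑Ψ)^[n] 0 = 0 := (iter Ψ n).map_zero
    rw [this]; exact Submodule.zero_mem _⟩
  smul_mem' := by
    intro c x hx e
    obtain ⟨f, w, rfl⟩ := exists_zpow_mul_algebraMap c
    obtain ⟨m, hm⟩ := hx (e + f)
    refine ⟨m, fun n hn => ?_⟩
    rw [mul_smul, iter_zpow_smul, iter_smul', frob_algebraMap, IsScalarTower.algebraMap_smul]
    have h1 := Submodule.smul_mem _ ((WittVector.frobeniusEquiv p k ^ (b * n)) w) (hm n hn)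
    have h2 : ((p : K(p, k)) ^ (-(f : ℤ))) • ((WittVector.frobeniusEquiv p k ^ (b * n)) w) •
        (⇑Ψ)^[n] x ∈ pPow (-(f : ℤ)) (pPow ((e + f : ℕ) : ℤ) M) := mem_pPow.2 ⟨_, h1, rfl⟩
    rw [pPow_pPow] at h2
    convert h2 using 2
    push_cast; ring

theorem mem_nilp {x : N} :
    x ∈ nilp Ψ M ↔ ∀ e : ℕ, ∃ m : ℕ, ∀ n : ℕ, m ≤ n → (⇑Ψ)^[n] x ∈ pPow e M := Iff.rfl

theorem mem_nilp' (h : ∀ x ∈ M, Ψ x ∈ M) {x : N} :
    x ∈ nilp Ψ M ↔ ∀ e : ℕ, ∃ m : ℕ, (⇑Ψ)^[m] x ∈ pPow e M := by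
  rw [mem_nilp]
  refine forall_congr' fun e => ⟨?_, ?_⟩
  · rintro ⟨m, hm⟩
    exact ⟨m, hm m le_rfl⟩
  · rintro ⟨m, hm⟩
    refine ⟨m, fun n hn => ?_⟩
    obtain ⟨j, rfl⟩ := Nat.exists_eq_add_of_le hn
    rw [add_comm, Function.iterate_add_apply]
    exact iter_mem_pPow h j hm

/-- the Artin–Rees constant -/
theorem exists_artinRees (hM : M.FG) : ∃ e0 : ℕ, ∀ (n : ℤ) (x : N), x ∈ sp Ψ M → x ∈ pPow n M →
    x ∈ pPow (n - e0) (sp Ψ M) := by
  obtain ⟨e0, he0⟩ := exists_zpow_smul_le (A := sp Ψ M)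
    (M := M ⊓ (Submodule.span K(p, k) (sp Ψ M : Set N)).restrictScalars (WittVector p k))
    (fg_of_le hM inf_le_left) (fun x hx => hx.2)
  refine ⟨e0, fun n x hx hxn => ?_⟩
  have h1 := mem_pPow'.1 hxn
  have h2 := he0 _ ⟨h1, Submodule.smul_mem _ _ (Submodule.subset_span hx)⟩
  rw [mem_pPow']
  rwa [zpow_smul_smul, show (e0 : ℤ) + -n = -(n - e0) by ring] at h2

theorem mem_pPow_sp_of_iter (hΨ : Function.Injective Ψ) (m : ℕ) {n : ℤ} {x : N}
    (hx : (⇑Ψ)^[m] x ∈ pPow n (sp Ψ M)) : x ∈ pPow n (sp Ψ M) := by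
  obtain ⟨y, hy, hyx⟩ := mem_pPow.1 hx
  obtain ⟨y', hy', rfl⟩ := exists_iter_mem_sp hΨ m hy
  rw [← iter_zpow_smul] at hyx
  exact mem_pPow.2 ⟨y', hy', (hΨ.iterate m) hyx⟩

theorem disjoint_span_sp_nilp (hΨ : Function.Injective Ψ) (h : ∀ x ∈ M, Ψ x ∈ M) (hM : M.FG) :
    Disjoint (Submodule.span K(p, k) (sp Ψ M : Set N)) (nilp Ψ M) := by
  rw [Submodule.disjoint_def]
  intro x hx hx'
  obtain ⟨e, he⟩ := exists_zpow_smul_mem hx
  have hne : ((p : K(p, k)) ^ (e : ℤ)) ≠ 0 := zpow_ne_zero _ p_ne_zero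
  have hy' : ((p : K(p, k)) ^ (e : ℤ)) • x ∈ nilp Ψ M := Submodule.smul_mem _ _ hx'
  rw [← smul_eq_zero_iff_right hne]
  obtain ⟨e0, he0⟩ := exists_artinRees (Ψ := Ψ) hM
  refine eq_zero_of_forall_mem (M := sp Ψ M) (fg_of_le hM sp_le) _ fun n => ?_
  obtain ⟨m, hm⟩ := (mem_nilp' h).1 hy' (n + e0)
  have hsp : (⇑Ψ)^[m] (((p : K(p, k)) ^ (e : ℤ)) • x) ∈ sp Ψ M := by
    have : ∀ m : ℕ, (⇑Ψ)^[m] (((p : K(p, k)) ^ (e : ℤ)) • x) ∈ sp Ψ M := by
      intro m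
      induction m with
      | zero => exact he
      | succ m ih => rw [Function.iterate_succ_apply']; exact map_mem_sp h ih
    exact this m
  have h1 := he0 _ _ hsp hm
  rw [show ((n + e0 : ℕ) : ℤ) - e0 = n by push_cast; ring] at h1
  exact mem_pPow_sp_of_iter hΨ m h1

/-- the stabilisation of `Ψ^j(M) + p M` -/
theorem exists_stab [Module.Finite K(p, k) N] (hM : M.IsLattice K(p, k)) (h : ∀ x ∈ M, Ψ x ∈ M) :
    ∃ c : ℕ, ∀ x ∈ M, ∃ y ∈ M, ∃ z ∈ M,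
      (⇑Ψ)^[c] x = (⇑Ψ)^[c + 1] y + ((p : K(p, k)) ^ (1 : ℤ)) • z := by
  set d := Module.finrank K(p, k) N with hd
  obtain ⟨j, hj, hjeq⟩ := chain_lemma M hM (h := d) le_rfl
    (fun j => latImg Ψ (d + 1 - j) M ⊔ pPow 1 M) (fun j _ => le_sup_right)
    (fun j _ => sup_le (by
      intro x hx
      obtain ⟨y, hy, rfl⟩ := mem_latImg.1 hx
      exact iter_mem h _ hy) (by
      have := pPow_mono_left (show (0 : ℤ) ≤ 1 by omega) M
      rwa [pPow_zero] at this))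
    (fun j hj => sup_le_sup_right (by
      intro x hx
      obtain ⟨y, hy, rfl⟩ := mem_latImg.1 hx
      refine mem_latImg.2 ⟨Ψ y, h y hy, ?_⟩
      rw [← Function.iterate_succ_apply (⇑Ψ)]
      congr 2
      omega) _)
  refine ⟨d - j, fun x hx => ?_⟩
  have h1 : (⇑Ψ)^[d - j] x ∈ latImg Ψ (d + 1 - (j + 1)) M ⊔ pPow 1 M :=
    Submodule.mem_sup_left (mem_latImg.2 ⟨x, hx, by
      rw [show d + 1 - (j + 1) = d - j by omega]⟩)
  have hjeq' : latImg Ψ (d + 1 - j) M ⊔ pPow 1 M = latImg Ψ (d + 1 - (j + 1)) M ⊔ pPow 1 M := hjeq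
  rw [← hjeq'] at h1
  obtain ⟨y', hy', z', hz', hyz⟩ := Submodule.mem_sup.1 h1
  obtain ⟨y, hy, rfl⟩ := mem_latImg.1 hy'
  obtain ⟨z, hz, rfl⟩ := mem_pPow.1 hz'
  refine ⟨y, hy, z, hz, ?_⟩
  rw [← hyz, show d + 1 - j = d - j + 1 by omega]

/-- with `c` as in `exists_stab`: deeper images modulo `p` -/
theorem stab_step {c : ℕ} (h : ∀ x ∈ M, Ψ x ∈ M)
    (hc : ∀ x ∈ M, ∃ y ∈ M, ∃ z ∈ M,
      (⇑Ψ)^[c] x = (⇑Ψ)^[c + 1] y + ((p : K(p, k)) ^ (1 : ℤ)) • z) (j : ℕ) :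
    ∀ x ∈ M, ∃ y ∈ M, ∃ z ∈ M,
      (⇑Ψ)^[c] x = (⇑Ψ)^[c + j] y + ((p : K(p, k)) ^ (1 : ℤ)) • z := by
  induction j with
  | zero => intro x hx; exact ⟨x, hx, 0, M.zero_mem, by simp⟩
  | succ j ih =>
    intro x hx
    obtain ⟨y, hy, z, hz, hyz⟩ := ih x hx
    obtain ⟨y', hy', z', hz', hyz'⟩ := hc y hy
    refine ⟨y', hy', (⇑Ψ)^[j] z' + z, M.add_mem (iter_mem h j hz') hz, ?_⟩
    rw [hyz, add_comm c j, Function.iterate_add_apply, hyz', iter_add', iter_zpow_smul, smul_add,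
      ← Function.iterate_add_apply, show j + (c + 1) = c + (j + 1) by ring]
    abel

theorem stab_pow {c : ℕ}
    (hc : ∀ j : ℕ, ∀ x ∈ M, ∃ y ∈ M, ∃ z ∈ M,
      (⇑Ψ)^[c] x = (⇑Ψ)^[c + j] y + ((p : K(p, k)) ^ (1 : ℤ)) • z) (n j : ℕ) :
    ∀ x ∈ M, ∃ y ∈ M, ∃ z ∈ M,
      (⇑Ψ)^[n * c] x = (⇑Ψ)^[n * c + j] y + ((p : K(p, k)) ^ (n : ℤ)) • z := by
  induction n generalizing j with
  | zero => intro x hx; exact ⟨0, M.zero_mem, x, hx, by simp [show (⇑Ψ)^[j] 0 = 0 from (iter Ψ j).map_zero]⟩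
  | succ n ih =>
    intro x hx
    obtain ⟨y, hy, z, hz, hyz⟩ := hc j x hx
    obtain ⟨y', hy', z', hz', hyz'⟩ := ih (c + j) z hz
    refine ⟨y + ((p : K(p, k)) ^ (1 : ℤ)) • y', M.add_mem hy (zpow_smul_mem_of_le (by omega) hy'),
      z', hz', ?_⟩
    rw [show (n + 1) * c = n * c + c by ring, Function.iterate_add_apply, hyz, iter_add',
      iter_zpow_smul, hyz', smul_add, zpow_smul_smul, iter_add', iter_zpow_smul,
      ← Function.iterate_add_apply, show n * c + (c + j) = n * c + c + j by ring,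
      show (1 : ℤ) + n = ((n + 1 : ℕ) : ℤ) by push_cast; ring]
    abel

/-- **Key lemma**: `Ψ^{nc}(M) ⊆ sp + p^n M` -/
theorem exists_sp_add [Module.Finite K(p, k) N] (hΨ : Function.Bijective Ψ)
    (hM : M.IsLattice K(p, k)) (h : ∀ x ∈ M, Ψ x ∈ M) :
    ∃ c : ℕ, ∀ n : ℕ, ∀ x ∈ M, ∃ a ∈ sp Ψ M, (⇑Ψ)^[n * c] x - a ∈ pPow n M := by
  obtain ⟨c0, hc0⟩ := exists_stab (Ψ := Ψ) hM h
  have hc1 := stab_step h hc0
  -- replace `c0` by `c0 + 1`
  have hc : ∀ j : ℕ, ∀ x ∈ M, ∃ y ∈ M, ∃ z ∈ M,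
      (⇑Ψ)^[c0 + 1] x = (⇑Ψ)^[c0 + 1 + j] y + ((p : K(p, k)) ^ (1 : ℤ)) • z := by
    intro j x hx
    obtain ⟨y, hy, z, hz, hyz⟩ := hc1 j x hx
    refine ⟨y, hy, Ψ z, h z hz, ?_⟩
    rw [Function.iterate_succ_apply', hyz, map_add, map_zpow_smul,
      ← Function.iterate_succ_apply' (⇑Ψ), show c0 + 1 + j = (c0 + j).succ by omega]
  set c := c0 + 1 with hcdef
  have hK := stab_pow hc
  refine ⟨c, fun n x hx => ?_⟩
  choose! f hf g hg hfg using fun m : ℕ => hK m c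
  let y : ℕ → N := fun i => Nat.rec x (fun i yi => f (n + i) yi) i
  have hy0 : y 0 = x := rfl
  have hys : ∀ i, y (i + 1) = f (n + i) (y i) := fun i => rfl
  have hyM : ∀ i, y i ∈ M := by
    intro i
    induction i with
    | zero => exact hx
    | succ i ih => rw [hys]; exact hf _ _ ih
  obtain ⟨z, hz, hz'⟩ := exists_limit' hM.fg n (fun i => (⇑Ψ)^[(n + i) * c] (y i))
    (iter_mem h _ (hyM 0)) (by
      intro i
      have h1 := hfg (n + i) (y i) (hyM i)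
      rw [← hys] at h1
      have h2 : (n + (i + 1)) * c = (n + i) * c + c := by ring
      beta_reduce
      rw [h2, h1, sub_add_cancel_left]
      refine Submodule.neg_mem _ ?_
      have := hg (n + i) (y i) (hyM i)
      rw [show (n : ℤ) + i = ((n + i : ℕ) : ℤ) by push_cast; ring]
      exact mem_pPow.2 ⟨_, this, rfl⟩)
  refine ⟨z, mem_sp.2 fun j => ?_, ?_⟩
  · -- `z ∈ Ψ^j(M)`
    have hlat : (latImg Ψ j M).IsLattice K(p, k) := by
      rw [latImg_eq_im]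
      exact isLattice_im _ (tw_bijective Ψ hΨ 0 j).2 hM
    obtain ⟨e, he⟩ := exists_pPow_le_of_isLattice hlat hM.fg
    let i := e + j
    have h1 : z - (⇑Ψ)^[(n + i) * c] (y i) ∈ latImg Ψ j M :=
      he (pPow_mono_left (by push_cast [i]; omega) M (hz' i))
    have h2 : (⇑Ψ)^[(n + i) * c] (y i) ∈ latImg Ψ j M := by
      have h3 : j ≤ (n + i) * c := by
        have h4 : j ≤ n + i := by omega
        have h5 : 1 ≤ c := by omega
        calc j ≤ n + i := h4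
          _ = (n + i) * 1 := (mul_one _).symm
          _ ≤ (n + i) * c := Nat.mul_le_mul_left _ h5
      obtain ⟨l, hl⟩ := Nat.exists_eq_add_of_le h3
      rw [hl, Function.iterate_add_apply]
      exact mem_latImg.2 ⟨_, iter_mem h _ (hyM i), rfl⟩
    have h3 := Submodule.add_mem _ h1 h2
    rw [sub_add_cancel] at h3
    exact mem_latImg.1 h3
  · have h1 := Submodule.neg_mem _ (hz' 0)
    rw [neg_sub] at h1
    simpa [hy0] using h1

theorem sp_ne_bot [Module.Finite K(p, k) N] (hΨ : Function.Bijective Ψ)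
    (hM : M.IsLattice K(p, k)) (h : ∀ x ∈ M, Ψ x ∈ M)
    (hnil : ∀ n : ℕ, ∃ x ∈ M, (⇑Ψ)^[n] x ∉ pPow 1 M) : sp Ψ M ≠ ⊥ := by
  intro hbot
  obtain ⟨c, hc⟩ := exists_sp_add hΨ hM h
  obtain ⟨x, hx, hx'⟩ := hnil (1 * c)
  obtain ⟨a, ha, ha'⟩ := hc 1 x hx
  rw [hbot, Submodule.mem_bot] at ha
  rw [ha, sub_zero] at ha'
  exact hx' (by exact_mod_cast ha')

theorem sup_eq_top [Module.Finite K(p, k) N] (hΨ : Function.Bijective Ψ)
    (hM : M.IsLattice K(p, k)) (h : ∀ x ∈ M, Ψ x ∈ M) :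
    Submodule.span K(p, k) (sp Ψ M : Set N) ⊔ nilp Ψ M = ⊤ := by
  rw [eq_top_iff, ← hM.span_eq_top, Submodule.span_le]
  intro x hx
  obtain ⟨c, hc⟩ := exists_sp_add hΨ hM h
  obtain ⟨e0, he0⟩ := exists_artinRees (Ψ := Ψ) hM.fg
  have hA : ∀ n : ℕ, ∃ a ∈ sp Ψ M, (⇑Ψ)^[n * c] (x - a) ∈ pPow n M := by
    intro n
    obtain ⟨a, ha, ha'⟩ := hc n x hx
    obtain ⟨a', ha1, rfl⟩ := exists_iter_mem_sp hΨ.1 (n * c) ha
    exact ⟨a', ha1, by rw [iter_sub']; exact ha'⟩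
  choose A hAs hA' using hA
  have hmap : ∀ (m : ℕ) {y : N}, y ∈ sp Ψ M → (⇑Ψ)^[m] y ∈ sp Ψ M := by
    intro m y hy
    induction m with
    | zero => exact hy
    | succ m ih => rw [Function.iterate_succ_apply']; exact map_mem_sp h ih
  have hdiff : ∀ n : ℕ, A (n + 1) - A n ∈ pPow (n - e0) (sp Ψ M) := by
    intro n
    apply mem_pPow_sp_of_iter hΨ.1 ((n + 1) * c)
    apply he0
    · exact hmap _ ((sp Ψ M).sub_mem (hAs _) (hAs _))
    · have h1 : (⇑Ψ)^[(n + 1) * c] (x - A n) ∈ pPow n M := by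
        rw [show (n + 1) * c = c + n * c by ring, Function.iterate_add_apply]
        exact iter_mem_pPow h c (hA' n)
      have h2 : (⇑Ψ)^[(n + 1) * c] (x - A (n + 1)) ∈ pPow n M :=
        pPow_mono_left (by omega) M (hA' (n + 1))
      have h3 := Submodule.sub_mem _ h1 h2
      rwa [← iter_sub', sub_sub_sub_cancel_left] at h3
  obtain ⟨z, hz, hz'⟩ := exists_limit (M := sp Ψ M) (fg_of_le hM.fg sp_le) (fun n => A (n + e0))
    (fun n => hAs _) (fun n => by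
      have := hdiff (n + e0)
      rw [show ((n + e0 : ℕ) : ℤ) - e0 = n by push_cast; ring] at this
      rw [show n + 1 + e0 = n + e0 + 1 by ring]
      exact this)
  have hxz : x - z ∈ nilp Ψ M := by
    rw [mem_nilp' h]
    intro n
    refine ⟨(n + e0) * c, ?_⟩
    rw [show x - z = (x - A (n + e0)) - (z - A (n + e0)) by abel, iter_sub']
    refine Submodule.sub_mem _ (pPow_mono_left (by omega) M (hA' (n + e0))) ?_
    exact iter_mem_pPow h _ (pPow_mono_right _ sp_le (hz' n))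
  rw [show x = z + (x - z) by abel]
  exact Submodule.add_mem_sup (Submodule.subset_span hz) hxz

theorem isCompl_fitting [Module.Finite K(p, k) N] (hΨ : Function.Bijective Ψ)
    (hM : M.IsLattice K(p, k)) (h : ∀ x ∈ M, Ψ x ∈ M) :
    IsCompl (Submodule.span K(p, k) (sp Ψ M : Set N)) (nilp Ψ M) :=
  ⟨disjoint_span_sp_nilp hΨ.1 h hM.fg, codisjoint_iff.2 (sup_eq_top hΨ hM h)⟩

/-! stability under a commuting semilinear map -/

variable {a : ℤ} {F : N →ₛₗ[frob p k a] N}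

theorem comm_iter (hcomm : ∀ x, F (Ψ x) = Ψ (F x)) (n : ℕ) (x : N) :
    F ((⇑Ψ)^[n] x) = (⇑Ψ)^[n] (F x) := by
  induction n with
  | zero => rfl
  | succ n ih => rw [Function.iterate_succ_apply', hcomm, ih, Function.iterate_succ_apply']

theorem map_mem_span_sp (hcomm : ∀ x, F (Ψ x) = Ψ (F x)) (hM : M.IsLattice K(p, k)) {x : N}
    (hx : x ∈ Submodule.span K(p, k) (sp Ψ M : Set N)) :
    F x ∈ Submodule.span K(p, k) (sp Ψ M : Set N) := by
  obtain ⟨e, he⟩ := exists_bound F hM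
  have key : ∀ y ∈ sp Ψ M, ((p : K(p, k)) ^ (e : ℤ)) • F y ∈ sp Ψ M := by
    intro y hy
    refine mem_sp.2 fun j => ?_
    obtain ⟨z, hz, rfl⟩ := mem_sp.1 hy j
    exact ⟨_, he z hz, by rw [iter_zpow_smul, comm_iter hcomm]⟩
  induction hx using Submodule.span_induction with
  | mem y hy =>
    have h1 := Submodule.smul_mem (Submodule.span K(p, k) (sp Ψ M : Set N))
      ((p : K(p, k)) ^ (-(e : ℤ))) (Submodule.subset_span (key y hy))
    rwa [zpow_smul_smul, neg_add_cancel, zpow_zero, one_smul] at h1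
  | zero => rw [map_zero]; exact Submodule.zero_mem _
  | add y z _ _ hy hz => rw [map_add]; exact Submodule.add_mem _ hy hz
  | smul c y _ hy => rw [LinearMap.map_smulₛₗ]; exact Submodule.smul_mem _ _ hy

theorem map_mem_nilp (hcomm : ∀ x, F (Ψ x) = Ψ (F x)) (hM : M.IsLattice K(p, k)) {x : N}
    (hx : x ∈ nilp Ψ M) : F x ∈ nilp Ψ M := by
  obtain ⟨e, he⟩ := exists_bound F hM
  intro n
  obtain ⟨m, hm⟩ := hx (n + e)
  refine ⟨m, fun j hj => ?_⟩
  rw [← comm_iter hcomm]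
  obtain ⟨y, hy, hyx⟩ := mem_pPow.1 (hm j hj)
  rw [← hyx, map_zpow_smul]
  refine mem_pPow.2 ⟨_, he y hy, ?_⟩
  rw [zpow_smul_smul]
  congr 2

end Fitting

end K773.Isoc
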