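import Groth.Agent.SigmaLin.K985.Witt
import Groth.Agent.Ega2.CompleteFinite

/-!
# Lang's lemma over a complete local ring with maximal ideal `(p)`

`R` local, maximal ideal `(p)`, `M` a finite `p`-adically complete `R`-module, `T : M → M` a
`σ`-semilinear map.  If the reduction of `σ` satisfies the two solvability conditions of
`K985.SigmaLin` then `1 - T` is surjective (`sub_surjective_complete`), and if moreover the image of
`T` spans `M` then `M` is spanned by `T`-fixed vectors (`span_fixed_eq_top`).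
-/

set_option autoImplicit false
universe u v

namespace K773.IsocLang

open K985.SigmaLin IsLocalRing Polynomial

section Cond

variable {k : Type u} [Field k] [IsAlgClosed k]

theorem iterate_pow_map {q : ℕ} (σ : k →+* k) (hσ : ∀ x, σ x = x ^ q) (i : ℕ) (x : k) :
    (⇑σ)^[i] x = x ^ q ^ i := by
  induction i with
  | zero => simp
  | succ i ih => rw [Function.iterate_succ_apply', ih, hσ, ← pow_mul, pow_succ]

/-- The first solvability condition for a power map. -/
theorem cond2_pow {q : ℕ} (hq : 1 < q) (σ : k →+* k) (hσ : ∀ x, σ x = x ^ q) : Cond2 σ := by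
  intro n b hb
  obtain ⟨i0, hi0⟩ : ∃ i, b i ≠ 0 := by
    by_contra h; push Not at h; exact hb (funext h)
  let P : k[X] := ∑ i : Fin (n + 1), C ((b (Fin.rev i)) ^ q ^ i.val) * X ^ (q ^ (i.val + 1)) - X
  have hcoeff : ∀ l, P.coeff l = (∑ i : Fin (n + 1), if l = q ^ (i.val + 1) then
      (b (Fin.rev i)) ^ q ^ i.val else 0) - if l = 1 then 1 else 0 := by
    intro l
    simp only [P, coeff_sub, finsetSum_coeff, coeff_C_mul, coeff_X_pow, mul_ite, mul_one, mul_zero,
      coeff_X]
    congr 1
    simp only [eq_comm]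
  have hpow : ∀ i : ℕ, q ^ (i + 1) ≠ 1 := fun i => (Nat.one_lt_pow (Nat.succ_ne_zero i) hq).ne'
  obtain ⟨x, hx0, hx⟩ := exists_ne_zero_root P 1 (q ^ ((Fin.rev i0).val + 1)) (hpow _).symm
    (by
      rw [hcoeff, if_pos rfl, Finset.sum_eq_zero, zero_sub]
      · exact neg_ne_zero.2 one_ne_zero
      · intro i _
        rw [if_neg (hpow i).symm])
    (by
      rw [hcoeff, if_neg (hpow _), sub_zero, Finset.sum_eq_single (Fin.rev i0)]
      · rw [if_pos rfl, Fin.rev_rev]
        exact pow_ne_zero _ hi0
      · intro j _ hj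
        rw [if_neg]
        intro h
        have := Nat.pow_right_injective hq h
        exact hj (Fin.ext (by omega))
      · intro h; exact absurd (Finset.mem_univ _) h)
  refine ⟨x, hx0, ?_⟩
  simp only [P, eval_sub, eval_finsetSum, eval_mul, eval_C, eval_pow, eval_X] at hx
  rw [sub_eq_zero] at hx
  conv_lhs => rw [← hx]
  refine Finset.sum_congr rfl fun i _ => ?_
  rw [iterate_pow_map σ hσ, iterate_pow_map σ hσ, mul_comm]

/-- The second solvability condition for a power map. -/
theorem cond3_pow {q : ℕ} (hq : 1 < q) (σ : k →+* k) (hσ : ∀ x, σ x = x ^ q) : Cond3 σ := by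
  intro c
  let P : k[X] := X ^ q - X + C c
  have hq0 : q ≠ 0 := by omega
  have hdeg : P.degree ≠ 0 := by
    intro h0
    have h1 : P.coeff q = 1 := by
      have h2 : (1 : ℕ) ≠ q := hq.ne
      simp [P, coeff_X, h2, coeff_C, hq0]
    rw [eq_C_of_degree_eq_zero h0, coeff_C, if_neg hq0] at h1
    exact zero_ne_one h1
  obtain ⟨x, hx⟩ := IsAlgClosed.exists_root P hdeg
  refine ⟨x, ?_⟩
  have : P.eval x = 0 := hx
  rw [hσ]
  simpa [P] using this

end Cond

section Complete

variable {R : Type u} [CommRing R] [IsLocalRing R] {σ : R →+* R}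
  {σbar : ResidueField R →+* ResidueField R} {M : Type v} [AddCommGroup M] [Module R M]

theorem smodEq_iff {p : ℕ} (hmax : maximalIdeal R = Ideal.span {(p : R)}) (n : ℕ) (x y : M) :
    x ≡ y [SMOD (maximalIdeal R ^ n • ⊤ : Submodule R M)] ↔ ∃ z : M, x - y = (p : R) ^ n • z := by
  rw [SModEq.sub_mem, hmax, Ideal.span_singleton_pow, Submodule.ideal_span_singleton_smul]
  constructor
  · rintro ⟨m', _, hm⟩
    exact ⟨m', hm.symm⟩
  · rintro ⟨m', hm⟩
    rw [hm]
    exact Submodule.smul_mem_pointwise_smul m' _ _ trivial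

theorem key_approx {p : ℕ} (hmax : maximalIdeal R = Ideal.span {(p : R)})
    (hσbar : ∀ r : R, σbar (residue R r) = residue R (σ r))
    (hsurj : Function.Surjective σbar) (h2 : Cond2 σbar) (h3 : Cond3 σbar) [Module.Finite R M]
    (T : M →ₛₗ[σ] M) (m : M) : ∃ a b : M, m = (a - T a) + (p : R) • b := by
  obtain ⟨a', ha'⟩ := sub_surjective (redMap hσbar T) hsurj h2 h3 (Submodule.Quotient.mk m)
  obtain ⟨a, rfl⟩ := Submodule.Quotient.mk_surjective _ a'
  have h : (Submodule.Quotient.mk (a - T a) : Red R M) = Submodule.Quotient.mk m := ha'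
  rw [eq_comm, Submodule.Quotient.eq, mem_red_iff hmax] at h
  obtain ⟨b, hb⟩ := h
  exact ⟨a, b, by rw [← hb]; abel⟩

/-- `1 - T` is surjective. -/
theorem sub_surjective_complete {p : ℕ} (hmax : maximalIdeal R = Ideal.span {(p : R)})
    (hσbar : ∀ r : R, σbar (residue R r) = residue R (σ r))
    (hsurj : Function.Surjective σbar) (h2 : Cond2 σbar) (h3 : Cond3 σbar) [Module.Finite R M]
    [IsAdicComplete (maximalIdeal R) M]
    (T : M →ₛₗ[σ] M) : Function.Surjective (fun m : M => m - T m) := by
  intro m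
  choose A B hAB using key_approx (M := M) hmax hσbar hsurj h2 h3 T
  -- `m = (s_n - T s_n) + p ^ n • b_n`
  let b : ℕ → M := fun n => B^[n] m
  let s : ℕ → M := fun n => ∑ i ∈ Finset.range n, (p : R) ^ i • A (b i)
  have hs : ∀ n, m = (s n - T (s n)) + (p : R) ^ n • b n := by
    intro n
    induction n with
    | zero => simp [s, b]
    | succ n ih =>
      have e1 : s (n + 1) = s n + (p : R) ^ n • A (b n) := Finset.sum_range_succ _ _
      have e2 : b (n + 1) = B (b n) := Function.iterate_succ_apply' _ _ _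
      have e3 := hAB (b n)
      rw [e1, e2, map_add, LinearMap.map_smulₛₗ, map_pow, map_natCast]
      conv_lhs => rw [ih, e3]
      rw [smul_add, smul_sub, smul_smul, ← pow_succ]
      abel
  have hcauchy : ∀ {a c : ℕ}, a ≤ c →
      s a ≡ s c [SMOD (maximalIdeal R ^ a • ⊤ : Submodule R M)] := by
    intro a c hac
    rw [smodEq_iff hmax]
    refine ⟨-∑ i ∈ Finset.Ico a c, (p : R) ^ (i - a) • A (b i), ?_⟩
    have : s c = s a + ∑ i ∈ Finset.Ico a c, (p : R) ^ i • A (b i) :=
      (Finset.sum_range_add_sum_Ico _ hac).symm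
    rw [this, smul_neg, Finset.smul_sum, sub_add_cancel_left, neg_inj]
    refine Finset.sum_congr rfl fun i hi => ?_
    rw [smul_smul, ← pow_add, Nat.add_sub_cancel' (Finset.mem_Ico.1 hi).1]
  obtain ⟨x, hx⟩ := IsPrecomplete.prec (I := maximalIdeal R) (M := M) inferInstance hcauchy
  refine ⟨x, ?_⟩
  show x - T x = m
  rw [← sub_eq_zero]
  refine IsHausdorff.haus (I := maximalIdeal R) inferInstance _ fun n => ?_
  obtain ⟨z, hz⟩ := (smodEq_iff hmax n (s n) x).1 (hx n)
  rw [smodEq_iff hmax]
  refine ⟨-z + T z - b n, ?_⟩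
  have hx' : x = s n - (p : R) ^ n • z := by rw [← hz]; abel
  rw [hx', map_sub, LinearMap.map_smulₛₗ, map_pow, map_natCast, sub_zero]
  conv_lhs => rw [hs n]
  rw [smul_sub, smul_add, smul_neg]
  abel

/-- **Lang's lemma**: if `T` is "unit-root" then `M` is spanned by the `T`-fixed vectors. -/
theorem span_fixed_eq_top {p : ℕ} (hmax : maximalIdeal R = Ideal.span {(p : R)})
    (hσbar : ∀ r : R, σbar (residue R r) = residue R (σ r))
    (hsurj : Function.Surjective σbar) (h2 : Cond2 σbar) (h3 : Cond3 σbar) [Module.Finite R M]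
    [IsAdicComplete (maximalIdeal R) M]
    (T : M →ₛₗ[σ] M) (hT : Submodule.span R (Set.range ⇑T) = ⊤) :
    Submodule.span R {m : M | T m = m} = ⊤ := by
  -- the reduction
  have hred : Submodule.span (ResidueField R) (Set.range ⇑(redMap hσbar T)) = ⊤ := by
    rw [eq_top_iff]
    rintro x -
    obtain ⟨m, rfl⟩ := Submodule.Quotient.mk_surjective _ x
    have hm : m ∈ Submodule.span R (Set.range ⇑T) := by rw [hT]; trivial
    induction hm using Submodule.span_induction with
    | mem y hy =>
      obtain ⟨z, rfl⟩ := hy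
      exact Submodule.subset_span ⟨Submodule.Quotient.mk z, redMap_mk hσbar T z⟩
    | zero => exact Submodule.zero_mem _
    | add y z _ _ hy hz => exact Submodule.add_mem _ hy hz
    | smul r y _ hy => exact Submodule.smul_mem _ (residue R r) hy
  have hfix := fixSpan_eq_top (redMap hσbar T) hred h2 h3
  have hlift : ∀ v : Red R M, redMap hσbar T v = v →
      ∃ m : M, T m = m ∧ (Submodule.Quotient.mk m : Red R M) = v := by
    intro v hv
    obtain ⟨m0, rfl⟩ := Submodule.Quotient.mk_surjective _ v
    rw [redMap_mk, Submodule.Quotient.eq, mem_red_iff hmax] at hv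
    obtain ⟨y, hy⟩ := hv
    obtain ⟨z, hz⟩ := sub_surjective_complete hmax hσbar hsurj h2 h3 T y
    refine ⟨m0 + (p : R) • z, ?_, ?_⟩
    · rw [map_add, LinearMap.map_smulₛₗ, map_natCast]
      have h4 : T m0 = m0 + (p : R) • y := by rw [← hy]; abel
      rw [h4, ← hz]
      show m0 + (p : R) • (z - T z) + (p : R) • T z = _
      rw [smul_sub]; abel
    · rw [Submodule.Quotient.eq, mem_red_iff hmax]
      exact ⟨z, by abel⟩
  -- Nakayama
  have hle : (⊤ : Submodule R M) ≤ Submodule.span R {m : M | T m = m} ⊔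
      (maximalIdeal R • ⊤ : Submodule R M) := by
    rintro m -
    have hm : (Submodule.Quotient.mk m : Red R M) ∈ fixSpan (redMap hσbar T) := by
      rw [hfix]; trivial
    have key : ∀ v ∈ fixSpan (redMap hσbar T), ∃ m' ∈ Submodule.span R {m : M | T m = m},
        (Submodule.Quotient.mk m' : Red R M) = v := by
      intro v hv
      induction hv using Submodule.span_induction with
      | mem y hy =>
        obtain ⟨m', h1, h2⟩ := hlift y hy
        exact ⟨m', Submodule.subset_span h1, h2⟩
      | zero => exact ⟨0, Submodule.zero_mem _, rfl⟩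
      | add y z _ _ hy hz =>
        obtain ⟨a, ha, rfl⟩ := hy
        obtain ⟨b, hb, rfl⟩ := hz
        exact ⟨a + b, Submodule.add_mem _ ha hb, rfl⟩
      | smul c y _ hy =>
        obtain ⟨r, rfl⟩ := residue_surjective c
        obtain ⟨a, ha, rfl⟩ := hy
        exact ⟨r • a, Submodule.smul_mem _ _ ha, rfl⟩
    obtain ⟨m', hm', h⟩ := key _ hm
    rw [eq_comm, Submodule.Quotient.eq] at h
    rw [show m = m' + (m - m') by abel]
    exact Submodule.add_mem_sup hm' h
  exact top_le_iff.1 (Submodule.le_of_le_smul_of_le_jacobson_bot Module.Finite.fg_top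
    (IsLocalRing.maximalIdeal_le_jacobson _) hle)

end Complete

end K773.IsocLang
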