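import Groth.Agent.Isoc.K773.Fit
import Mathlib.NumberTheory.DiophantineApproximation.Basic
import Mathlib.LinearAlgebra.FreeModule.Finite.Basic

/-!
# Existence of the first slope

`Adm F r s`: some lattice `M` has `F^s(M) ⊆ p^r M`.
-/

set_option autoImplicit false
universe u v

namespace K773.Isoc

open _root_.Isoc
open scoped Pointwise Isocrystal

variable {p : ℕ} [Fact p.Prime] {k : Type u} [Field k] [CharP k p] [PerfectRing k p]
variable {N : Type v} [AddCommGroup N] [Module (WittVector p k) N] [Module K(p, k) N]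
  [IsScalarTower (WittVector p k) K(p, k) N]
variable {a : ℤ}

/-- some lattice `M` has `F^s(M) ⊆ p^r M` -/
def Adm (F : N →ₛₗ[frob p k a] N) (r : ℤ) (s : ℕ) : Prop :=
  ∃ M : Submodule (WittVector p k) N, M.IsLattice K(p, k) ∧ ∀ x ∈ M, tw F r s x ∈ M

/-- `M + F M + … + F^{n} M` -/
noncomputable def S (F : N →ₛₗ[frob p k a] N) (M : Submodule (WittVector p k) N) (n : ℕ) :
    Submodule (WittVector p k) N := ⨆ i ∈ Finset.range (n + 1), latImg F i M

theorem S_le_iff {F : N →ₛₗ[frob p k a] N} {M T : Submodule (WittVector p k) N} {n : ℕ} :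
    S F M n ≤ T ↔ ∀ i ≤ n, ∀ x ∈ M, (⇑F)^[i] x ∈ T := by
  rw [S, iSup₂_le_iff]
  constructor
  · intro h i hi x hx
    exact h i (Finset.mem_range.2 (by omega)) (mem_latImg.2 ⟨x, hx, rfl⟩)
  · intro h i hi y hy
    obtain ⟨x, hx, rfl⟩ := mem_latImg.1 hy
    exact h i (by have := Finset.mem_range.1 hi; omega) x hx

theorem iter_mem_S {F : N →ₛₗ[frob p k a] N} {M : Submodule (WittVector p k) N} {n i : ℕ}
    (hi : i ≤ n) {x : N} (hx : x ∈ M) : (⇑F)^[i] x ∈ S F M n := S_le_iff.1 le_rfl i hi x hx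

theorem S_fg {F : N →ₛₗ[frob p k a] N} {M : Submodule (WittVector p k) N} (hM : M.FG) (n : ℕ) :
    (S F M n).FG :=
  Submodule.fg_biSup _ _ fun i _ => by rw [latImg_eq_im]; exact im_fg _ hM

theorem S_isLattice {F : N →ₛₗ[frob p k a] N} {M : Submodule (WittVector p k) N}
    (hM : M.IsLattice K(p, k)) (n : ℕ) : (S F M n).IsLattice K(p, k) :=
  Submodule.IsLattice.of_le_of_isLattice_of_fg K(p, k) (M := M)
    (fun x hx => iter_mem_S (F := F) (i := 0) (Nat.zero_le _) hx) (S_fg hM.fg n)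

theorem S_mono (F : N →ₛₗ[frob p k a] N) (M : Submodule (WittVector p k) N) {m n : ℕ} (h : m ≤ n) :
    S F M m ≤ S F M n := S_le_iff.2 fun _ hi _ hx => iter_mem_S (hi.trans h) hx

theorem im_S_le (F : N →ₛₗ[frob p k a] N) (M : Submodule (WittVector p k) N) (n : ℕ) :
    im F (S F M n) ≤ S F M (n + 1) := by
  have h : S F M n ≤ (S F M (n + 1)).comap (resW F) := by
    refine S_le_iff.2 fun i hi x hx => ?_
    show F ((⇑F)^[i] x) ∈ S F M (n + 1)
    rw [← Function.iterate_succ_apply' (⇑F)]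
    exact iter_mem_S (by omega) hx
  exact Submodule.map_le_iff_le_comap.2 h

theorem map_mem_S (F : N →ₛₗ[frob p k a] N) (M : Submodule (WittVector p k) N) (n : ℕ) {x : N}
    (hx : x ∈ S F M n) : F x ∈ S F M (n + 1) := im_S_le F M n ⟨x, hx, rfl⟩

/-- the set of admissible `(r, s)` is closed under decreasing `r / s` -/
theorem adm_mono {F : N →ₛₗ[frob p k a] N} {r0 r : ℤ} {s0 s : ℕ} (hs0 : 0 < s0)
    (h : Adm F r0 s0) (hle : r * s0 ≤ r0 * s) : Adm F r s := by
  obtain ⟨M, hM, hst⟩ := h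
  obtain ⟨t, rfl⟩ : ∃ t, s0 = t + 1 := ⟨s0 - 1, by omega⟩
  set Ψ := tw F r s with hΨ
  refine ⟨S Ψ M t, S_isLattice hM t, ?_⟩
  have key : S Ψ M t ≤ (S Ψ M t).comap (resW Ψ) := by
    refine S_le_iff.2 fun i hi x hx => ?_
    show Ψ ((⇑Ψ)^[i] x) ∈ S Ψ M t
    rw [← Function.iterate_succ_apply' (⇑Ψ)]
    by_cases hit : i + 1 ≤ t
    · exact iter_mem_S hit hx
    · obtain rfl : i = t := by omega
      refine iter_mem_S (F := Ψ) (i := 0) (Nat.zero_le _) (x := (⇑Ψ)^[i.succ] x) ?_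
      have h1 := iter_mem hst s hx
      rw [tw_iter, mul_comm (i + 1) s] at h1
      rw [hΨ, tw_iter]
      have h2 := zpow_smul_mem_of_le (show 0 ≤ r0 * s - r * ((i + 1 : ℕ) : ℤ) by
        push_cast; push_cast at hle; linarith) h1
      rw [zpow_smul_smul] at h2
      convert h2 using 3
      push_cast; ring
  exact key

/-- **Effectivity**: if `p Ψ^{h+1}(M) ⊆ M` for a lattice `M`, `h = dim N`, then some lattice is
`Ψ`-stable. -/
theorem exists_stable_of_le [Module.Finite K(p, k) N] {h : ℕ}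
    (hh : Module.finrank K(p, k) N ≤ h) (Ψ : N →ₛₗ[frob p k a] N)
    (M : Submodule (WittVector p k) N) (hM : M.IsLattice K(p, k))
    (hle : ∀ x ∈ M, ((p : K(p, k)) ^ (1 : ℤ)) • (⇑Ψ)^[h + 1] x ∈ M) :
    ∃ M' : Submodule (WittVector p k) N, M'.IsLattice K(p, k) ∧ ∀ x ∈ M', Ψ x ∈ M' := by
  have hS := S_isLattice (F := Ψ) hM h
  have hB : (pPow (-1) (S Ψ M h)).IsLattice K(p, k) :=
    Submodule.IsLattice.of_le_of_isLattice_of_fg K(p, k) (M := S Ψ M h)
      (by
        have := pPow_mono_left (show (-1 : ℤ) ≤ 0 by omega) (S Ψ M h)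
        rwa [pPow_zero] at this) (pPow_fg _ (S_fg hM.fg h))
  obtain ⟨j, hj, hjeq⟩ := chain_lemma (pPow (-1) (S Ψ M h)) hB hh (fun j => S Ψ M (h + j))
    (fun j _ => by
      rw [pPow_pPow, show (1 : ℤ) + -1 = 0 by ring, pPow_zero]
      exact S_mono Ψ M (by omega))
    (fun j hj => by
      refine S_le_iff.2 fun i hi x hx => ?_
      by_cases hih : i ≤ h
      · have := pPow_mono_left (show (-1 : ℤ) ≤ 0 by omega) (S Ψ M h)
        rw [pPow_zero] at this
        exact this (iter_mem_S hih hx)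
      · obtain ⟨l, rfl⟩ := Nat.exists_eq_add_of_le (show h + 1 ≤ i by omega)
        rw [mem_pPow', neg_neg, add_comm, Function.iterate_add_apply, ← iter_zpow_smul]
        exact iter_mem_S (by omega) (hle x hx))
    (fun j _ => S_mono Ψ M (by omega))
  refine ⟨S Ψ M (h + j), S_isLattice hM _, fun x hx => ?_⟩
  have h1 := map_mem_S Ψ M _ hx
  have h2 : S Ψ M (h + j) = S Ψ M (h + (j + 1)) := hjeq
  rw [h2]; exact h1

/-- a topologically nilpotent endomorphism of a lattice has `Ψ^h(M) ⊆ p M` -/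
theorem iter_mem_of_nilpotent [Module.Finite K(p, k) N] {h : ℕ}
    (hh : Module.finrank K(p, k) N ≤ h) (Ψ : N →ₛₗ[frob p k a] N)
    (M : Submodule (WittVector p k) N) (hM : M.IsLattice K(p, k)) (hst : ∀ x ∈ M, Ψ x ∈ M)
    {n : ℕ} (hn : ∀ x ∈ M, (⇑Ψ)^[n] x ∈ pPow 1 M) : ∀ x ∈ M, (⇑Ψ)^[h] x ∈ pPow 1 M := by
  let C : ℕ → Submodule (WittVector p k) N := fun j => M ⊓ (pPow 1 M).comap (resW (tw Ψ 0 j))
  have hC : ∀ j x, x ∈ C j ↔ x ∈ M ∧ (⇑Ψ)^[j] x ∈ pPow 1 M := by
    intro j x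
    show x ∈ M ∧ tw Ψ 0 j x ∈ pPow 1 M ↔ _
    rw [tw_apply, neg_zero, zpow_zero, one_smul]
  have hpM : pPow 1 M ≤ M := by
    have := pPow_mono_left (show (0 : ℤ) ≤ 1 by omega) M
    rwa [pPow_zero] at this
  have hmono : ∀ j, C j ≤ C (j + 1) := by
    intro j x hx
    rw [hC] at hx ⊢
    exact ⟨hx.1, by rw [Function.iterate_succ_apply']; exact iter_mem_pPow hst 1 hx.2⟩
  have hmono' : ∀ j l, j ≤ l → C j ≤ C l := fun j l hjl => monotone_nat_of_le_succ hmono hjl
  obtain ⟨j, hj, hjeq⟩ := chain_lemma M hM hh C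
    (fun j _ x hx => (hC j x).2 ⟨hpM hx, iter_mem_pPow hst j hx⟩) (fun j _ => inf_le_left)
    (fun j _ => hmono j)
  have hstab : ∀ l, C (j + l) = C j := by
    intro l
    induction l with
    | zero => rfl
    | succ l ih =>
      apply le_antisymm _ (hmono' _ _ (by omega))
      intro x hx
      rw [hC] at hx
      have h1 : Ψ x ∈ C (j + l) := by
        rw [hC]
        refine ⟨hst x hx.1, ?_⟩
        rw [← Function.iterate_succ_apply]
        exact hx.2
      rw [ih, hC] at h1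
      rw [hjeq, hC]
      exact ⟨hx.1, h1.2⟩
  intro x hx
  have h1 : x ∈ C (j + n) := hmono' n (j + n) (by omega) ((hC n x).2 ⟨hx, hn x hx⟩)
  rw [hstab] at h1
  exact ((hC h x).1 (hmono' j h hj h1)).2

/-- a lattice exists -/
theorem exists_isLattice [Module.Finite K(p, k) N] :
    ∃ M : Submodule (WittVector p k) N, M.IsLattice K(p, k) := by
  obtain ⟨S, hS⟩ := Module.Finite.fg_top (R := K(p, k)) (M := N)
  refine ⟨Submodule.span (WittVector p k) S, ⟨⟨S, rfl⟩, ?_⟩⟩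
  rw [Submodule.span_span_of_tower]
  exact hS

/-- the `r / s` with `(r, s)` admissible are bounded -/
theorem adm_bounded [Module.Finite K(p, k) N] [Nontrivial N] (F : N →ₛₗ[frob p k a] N)
    (hF : Function.Bijective F) :
    ∃ c : ℤ, ∀ (r : ℤ) (s : ℕ), Adm F r s → r ≤ c * s := by
  obtain ⟨M0, hM0⟩ := exists_isLattice (p := p) (k := k) (N := N)
  obtain ⟨c, hc⟩ := exists_pPow_le_of_isLattice (isLattice_im F hF.2 hM0) hM0.fg
  have hc' : ∀ (n : ℕ), ∀ x ∈ M0, ∃ y ∈ M0, (⇑F)^[n] y = ((p : K(p, k)) ^ ((c : ℤ) * n)) • x := by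
    intro n
    induction n with
    | zero => intro x hx; exact ⟨x, hx, by simp⟩
    | succ n ih =>
      intro x hx
      obtain ⟨y, hy, hyx⟩ := mem_im.1 (hc (mem_pPow.2 ⟨x, hx, rfl⟩))
      obtain ⟨z, hz, hzy⟩ := ih y hy
      refine ⟨z, hz, ?_⟩
      rw [Function.iterate_succ_apply', hzy, map_zpow_smul, hyx, zpow_smul_smul,
        show (c : ℤ) * n + c = (c : ℤ) * ((n + 1 : ℕ) : ℤ) by push_cast; ring]
  refine ⟨c, fun r s => ?_⟩
  rintro ⟨M, hM, hst⟩
  by_contra hlt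
  push Not at hlt
  obtain ⟨e, he⟩ := exists_pPow_le_of_isLattice hM0 hM.fg
  obtain ⟨e', he'⟩ := exists_pPow_le_of_isLattice hM hM0.fg
  have hbot : M0 ≤ ⊥ := by
    intro x hx
    rw [Submodule.mem_bot]
    refine eq_zero_of_forall_mem hM0.fg x fun m => ?_
    rw [mem_pPow']
    let n : ℕ := m + e + e'
    obtain ⟨y, hy, hyx⟩ := hc' (s * n) x hx
    have h1 : ((p : K(p, k)) ^ (e' : ℤ)) • y ∈ M := he' (mem_pPow.2 ⟨y, hy, rfl⟩)
    have h2 := iter_mem hst n h1
    rw [tw_iter, iter_zpow_smul, hyx, zpow_smul_smul, zpow_smul_smul] at h2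
    have h3 : ((p : K(p, k)) ^ (e : ℤ)) • ((p : K(p, k)) ^ (-(r * (n : ℤ)) + (e' : ℤ) +
        (c : ℤ) * ((s * n : ℕ) : ℤ))) • x ∈ M0 := he (mem_pPow.2 ⟨_, h2, rfl⟩)
    rw [zpow_smul_smul] at h3
    have h4 := zpow_smul_mem_of_le (p := p) (k := k) (M := M0) (i := -(m : ℤ) -
      (e + (-(r * (n : ℤ)) + (e' : ℤ) + (c : ℤ) * ((s * n : ℕ) : ℤ)))) (by
        have h5 : (c : ℤ) * ((s * n : ℕ) : ℤ) + n ≤ r * n := by
          push_cast
          nlinarith [Int.natCast_nonneg n]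
        have h6 : (n : ℤ) = m + e + e' := by push_cast [n]; ring
        linarith) h3
    rwa [zpow_smul_smul, sub_add_cancel] at h4
  have htop := hM0.span_eq_top
  rw [le_bot_iff.1 hbot] at htop
  have : Subsingleton N := by
    rw [← Submodule.subsingleton_iff K(p, k), ← subsingleton_iff_bot_eq_top, ← htop]
    simp
  exact not_subsingleton N this

theorem adm_exists [Module.Finite K(p, k) N] (F : N →ₛₗ[frob p k a] N) : ∃ r : ℤ, Adm F r 1 := by
  obtain ⟨M0, hM0⟩ := exists_isLattice (p := p) (k := k) (N := N)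
  obtain ⟨e, he⟩ := exists_bound F hM0
  exact ⟨-e, M0, hM0, fun x hx => by rw [tw_apply, neg_neg]; exact he x hx⟩

/-- **Existence of the first slope**: `(r, s, M)` with `F^s(M) ⊆ p^r M` and `p^{-r} F^s` not
topologically nilpotent on `M`. -/
theorem exists_first_slope [Module.Finite K(p, k) N] [Nontrivial N] (F : N →ₛₗ[frob p k a] N)
    (hF : Function.Bijective F) :
    ∃ (r : ℤ) (s : ℕ) (M : Submodule (WittVector p k) N), 0 < s ∧ M.IsLattice K(p, k) ∧
      (∀ x ∈ M, tw F r s x ∈ M) ∧ ∀ n : ℕ, ∃ x ∈ M, (⇑(tw F r s))^[n] x ∉ pPow 1 M := by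
  set h := Module.finrank K(p, k) N with hh
  have hpos : 0 < h := Module.finrank_pos
  obtain ⟨c, hc⟩ := adm_bounded F hF
  let X : Set ℝ := {q | ∃ (r : ℤ) (s : ℕ), 0 < s ∧ Adm F r s ∧ q = (r : ℝ) / s}
  have hne : X.Nonempty := by
    obtain ⟨r, hr⟩ := adm_exists F
    exact ⟨(r : ℝ) / (1 : ℕ), r, 1, one_pos, hr, rfl⟩
  have hbdd : BddAbove X := by
    refine ⟨c, ?_⟩
    rintro _ ⟨r, s, hs, hr, rfl⟩
    rw [div_le_iff₀ (by exact_mod_cast hs)]
    exact_mod_cast hc r s hr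
  set lam := sSup X with hlam
  have hle : ∀ (r : ℤ) (s : ℕ), 0 < s → Adm F r s → (r : ℝ) / s ≤ lam := fun r s hs hr =>
    le_csSup hbdd ⟨r, s, hs, hr, rfl⟩
  -- everything strictly below `lam` is admissible
  have hlt : ∀ (r : ℤ) (s : ℕ), 0 < s → (r : ℝ) / s < lam → Adm F r s := by
    intro r s hs hr
    obtain ⟨_, ⟨r0, s0, hs0, h0, rfl⟩, hq⟩ := exists_lt_of_lt_csSup hne hr
    refine adm_mono hs0 h0 ?_
    have h1 : (r : ℝ) / s ≤ (r0 : ℝ) / s0 := hq.le
    rw [div_le_div_iff₀ (by exact_mod_cast hs) (by exact_mod_cast hs0)] at h1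
    exact_mod_cast h1
  -- effectivity
  have heff : ∀ (r : ℤ) (s : ℕ), Adm F (r * (h + 1) - 1) (s * (h + 1)) → Adm F r s := by
    rintro r s ⟨M, hM, hst⟩
    refine exists_stable_of_le (h := h) hh.symm.le (tw F r s) M hM fun x hx => ?_
    have := hst x hx
    rw [tw_iter]
    rw [tw_apply] at this
    rw [zpow_smul_smul]
    convert this using 3
    push_cast; ring
  have hle' : ∀ (r : ℤ) (s : ℕ), 0 < s → (r : ℝ) / s ≤ lam → Adm F r s := by
    intro r s hs hr
    apply heff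
    apply hlt _ _ (by positivity)
    refine lt_of_lt_of_le ?_ hr
    have hs' : (0 : ℝ) < s := by exact_mod_cast hs
    rw [div_lt_div_iff₀ (by positivity) hs']
    push_cast
    nlinarith
  obtain ⟨j, m, hm0, hmh, hjm⟩ := Real.exists_int_int_abs_mul_sub_le lam hpos
  obtain ⟨s, rfl⟩ := Int.eq_ofNat_of_zero_le hm0.le
  have hs : 0 < s := by exact_mod_cast hm0
  have hs' : (0 : ℝ) < s := by exact_mod_cast hs
  have hh' : (0 : ℝ) < h := by exact_mod_cast hpos
  rw [abs_le] at hjm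
  push_cast at hjm
  have hadm : Adm F j s := by
    apply heff
    apply hle' _ _ (by positivity)
    rw [div_le_iff₀ (by positivity)]
    push_cast
    have h1 := hjm.1
    have h2 : (j : ℝ) - 1 / (h + 1) ≤ s * lam := by linarith
    have h3 : ((j : ℝ) - 1 / (h + 1)) * (h + 1) = j * (h + 1) - 1 := by
      field_simp
    nlinarith
  obtain ⟨M, hM, hst⟩ := hadm
  refine ⟨j, s, M, hs, hM, hst, ?_⟩
  by_contra hcon
  push Not at hcon
  obtain ⟨n, hn⟩ := hcon
  have h1 := iter_mem_of_nilpotent (h := h) hh.symm.le (tw F j s) M hM hst hn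
  have h2 : Adm F (j * h + 1) (s * h) := by
    refine ⟨M, hM, fun x hx => ?_⟩
    have := mem_pPow'.1 (h1 x hx)
    rw [tw_iter, zpow_smul_smul] at this
    rw [tw_apply]
    convert this using 3
    push_cast; ring
  have h3 := hle _ _ (by positivity) h2
  rw [div_le_iff₀ (by positivity)] at h3
  push_cast at h3
  have h4 := hjm.2
  have h5 : (s : ℝ) * lam ≤ j + 1 / (h + 1) := by linarith
  have h6 : (1 : ℝ) / (h + 1) * h < 1 := by
    rw [div_mul_eq_mul_div, div_lt_one (by positivity)]; linarith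
  nlinarith

end K773.Isoc
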