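import Groth.Agent.Isoc.K773.UnitRoot
import Mathlib.LinearAlgebra.Pi
import Mathlib.LinearAlgebra.StdBasis

/-!
# Standard vectors: `F^h x = p^d x`, the map from the standard isocrystal
-/

set_option autoImplicit false
universe u v

namespace K773.Isoc

open _root_.Isoc
open scoped Pointwise Isocrystal

variable {p : ℕ} [Fact p.Prime] {k : Type u} [Field k] [CharP k p] [PerfectRing k p]
variable {N : Type v} [AddCommGroup N] [Module (WittVector p k) N] [Module K(p, k) N]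
  [IsScalarTower (WittVector p k) K(p, k) N]
variable {a : ℤ}

/-- simplicity of the standard isocrystals (this is S17153) -/
def StdSimple (p : ℕ) [Fact p.Prime] (k : Type u) [Field k] [CharP k p] [PerfectRing k p] (a : ℤ) :
    Prop := ∀ (d : ℤ) (h : ℕ), 0 < h → Int.gcd d h = 1 →
      ∀ P : Submodule K(p, k) (Fin h → K(p, k)), (∀ x ∈ P, stdIsoc (frob p k a) d h x ∈ P) →
        P = ⊥ ∨ P = ⊤

/-- the map `e_i ↦ F^i x` -/
noncomputable def fx (F : N →ₛₗ[frob p k a] N) (h : ℕ) (x : N) : (Fin h → K(p, k)) →ₗ[K(p, k)] N :=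
  ∑ i : Fin h, (LinearMap.proj i).smulRight ((⇑F)^[i.val] x)

theorem fx_apply (F : N →ₛₗ[frob p k a] N) (h : ℕ) (x : N) (v : Fin h → K(p, k)) :
    fx F h x v = ∑ i : Fin h, v i • (⇑F)^[i.val] x := by
  simp [fx, LinearMap.sum_apply]

theorem fx_single (F : N →ₛₗ[frob p k a] N) (h : ℕ) (x : N) (i : Fin h) :
    fx F h x (Pi.single i 1) = (⇑F)^[i.val] x := by
  rw [fx_apply, Finset.sum_eq_single i]
  · simp
  · intro j _ hj; simp [hj]
  · intro hi; exact absurd (Finset.mem_univ _) hi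

theorem tw_eq_iff {F : N →ₛₗ[frob p k a] N} {d : ℤ} {h : ℕ} {x : N} :
    tw F d h x = x ↔ (⇑F)^[h] x = ((p : K(p, k)) ^ d) • x := by
  rw [tw_apply]
  constructor
  · intro hx
    conv_rhs => rw [← hx]
    rw [zpow_smul_smul, add_neg_cancel, zpow_zero, one_smul]
  · intro hx
    rw [hx, zpow_smul_smul, neg_add_cancel, zpow_zero, one_smul]

/-- `fx` is a morphism of isocrystals from the standard one -/
theorem fx_stdIsoc {F : N →ₛₗ[frob p k a] N} {d : ℤ} {h : ℕ} {x : N} (hx : tw F d h x = x)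
    (v : Fin h → K(p, k)) : fx F h x (stdIsoc (frob p k a) d h v) = F (fx F h x v) := by
  rw [tw_eq_iff] at hx
  rw [fx_apply, fx_apply, map_sum, ← Equiv.sum_comp (finRotate h)]
  refine Finset.sum_congr rfl fun i _ => ?_
  rw [stdIsoc_apply, Equiv.symm_apply_apply, LinearMap.map_smulₛₗ,
    ← Function.iterate_succ_apply' (⇑F)]
  obtain ⟨n, rfl⟩ : ∃ n, h = n + 1 := ⟨h - 1, by have := i.2; omega⟩
  by_cases hi : i = Fin.last n
  · subst hi
    rw [finRotate_last, if_pos (by rfl)]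
    simp only [Fin.val_zero, Function.iterate_zero, id, Fin.val_last]
    rw [Nat.succ_eq_add_one, hx, smul_smul, mul_comm]
  · have hlt : i.val < n := by
      have h1 := i.2
      have h2 : i.val ≠ n := fun h3 => hi (Fin.ext h3)
      omega
    have hv : (finRotate (n + 1) i).val = i.val + 1 := by
      rw [coe_finRotate_of_ne_last hi]
    rw [hv, if_neg (Nat.succ_ne_zero _), one_mul]

theorem fx_mem_range_stable {F : N →ₛₗ[frob p k a] N} {d : ℤ} {h : ℕ} {x : N}
    (hx : tw F d h x = x) : ∀ y ∈ LinearMap.range (fx F h x), F y ∈ LinearMap.range (fx F h x) := by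
  rintro _ ⟨v, rfl⟩
  exact ⟨_, fx_stdIsoc hx v⟩

theorem mem_range_fx {F : N →ₛₗ[frob p k a] N} {h : ℕ} (hh : 0 < h) (x : N) :
    x ∈ LinearMap.range (fx F h x) :=
  ⟨Pi.single ⟨0, hh⟩ 1, by rw [fx_single]; rfl⟩

/-- if `x ∉ Q`, `Q` stable, then `fx v ∈ Q` only for `v = 0` -/
theorem fx_eq_zero (hS : StdSimple p k a) {F : N →ₛₗ[frob p k a] N} {d : ℤ} {h : ℕ}
    (hh : 0 < h) (hdh : Int.gcd d h = 1) {x : N}
    (hx : tw F d h x = x) {Q : Submodule K(p, k) N} (hQ : ∀ y ∈ Q, F y ∈ Q) (hxQ : x ∉ Q)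
    {v : Fin h → K(p, k)} (hv : fx F h x v ∈ Q) : v = 0 := by
  rcases hS d h hh hdh (Q.comap (fx F h x)) (fun y hy => by
    rw [Submodule.mem_comap] at hy ⊢
    rw [fx_stdIsoc hx]
    exact hQ _ hy) with h0 | h0
  · have : v ∈ Q.comap (fx F h x) := hv
    rw [h0] at this
    exact this
  · exfalso
    have : (Pi.single ⟨0, hh⟩ 1 : Fin h → K(p, k)) ∈ Q.comap (fx F h x) := by rw [h0]; trivial
    rw [Submodule.mem_comap, fx_single] at this
    exact hxQ this

theorem disjoint_range_fx (hS : StdSimple p k a) {F : N →ₛₗ[frob p k a] N} {d : ℤ} {h : ℕ}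
    (hh : 0 < h) (hdh : Int.gcd d h = 1) {x : N}
    (hx : tw F d h x = x) {Q : Submodule K(p, k) N} (hQ : ∀ y ∈ Q, F y ∈ Q) (hxQ : x ∉ Q) :
    Disjoint Q (LinearMap.range (fx F h x)) := by
  rw [Submodule.disjoint_def]
  rintro _ hy ⟨v, rfl⟩
  rw [fx_eq_zero hS hh hdh hx hQ hxQ hy, map_zero]

/-- **Generation by standard vectors** (`k` algebraically closed, `a ≠ 0`) -/
theorem exists_standard [IsAlgClosed k] (ha : a ≠ 0) [Module.Finite K(p, k) N]
    (F : N →ₛₗ[frob p k a] N) (hF : Function.Bijective F) {Q : Submodule K(p, k) N} (hQ : Q ≠ ⊤) :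
    ∃ (d : ℤ) (h : ℕ) (x : N), 0 < h ∧ Int.gcd d h = 1 ∧ tw F d h x = x ∧ x ∉ Q := by
  by_contra hcon
  push Not at hcon
  apply hQ
  rw [eq_top_iff, ← iSup_slopePart_eq_top _ N F hF rfl]
  refine iSup_le fun μ => ?_
  obtain ⟨h1, h2⟩ := slopePart_spec F μ
  set P := slopePart F μ with hPdef
  have h3 : IsoclOn (F.restrict h1) ⊤ μ :=
    isIsoclinic_iff.1 ((isIsoclinic_restrict_iff h1).2 h2)
  have hbij : Function.Bijective (F.restrict h1) := by
    have hind := iSupIndep_of_isoclOn hF _ fun μ => (slopePart_spec F μ).2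
    have hc : IsCompl (⨆ ν ≠ μ, slopePart F ν) P := by
      refine ⟨(hind μ).symm, ?_⟩
      rw [codisjoint_iff, eq_top_iff, ← iSup_slopePart_eq_top _ N F hF rfl]
      refine iSup_le fun ν => ?_
      by_cases hν : ν = μ
      · rw [hν]; exact le_sup_right
      · exact le_sup_of_le_left (le_iSup₂_of_le ν hν le_rfl)
    refine restrict_bijective hF (P := ⨆ ν ≠ μ, slopePart F ν) (fun x hx => ?_) h1 hc
    have : (⨆ ν ≠ μ, slopePart F ν) ≤ (⨆ ν ≠ μ, slopePart F ν).comap F := by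
      refine iSup₂_le fun ν hν y hy => ?_
      exact Submodule.mem_iSup_of_mem ν (Submodule.mem_iSup_of_mem hν ((slopePart_spec F ν).1 y hy))
    exact this hx
  have h4 := span_standard ha (F.restrict h1) hbij h3
  have h5 : P = (⊤ : Submodule K(p, k) P).map P.subtype := by
    rw [Submodule.map_top, Submodule.range_subtype]
  rw [h5, ← h4, Submodule.map_span, Submodule.span_le]
  rintro _ ⟨x, hx, rfl⟩
  refine hcon μ.num μ.den x μ.pos μ.reduced ?_
  rw [← tw_restrict h1]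
  exact congrArg Subtype.val hx

/-- **Semisimplicity** -/
theorem exists_isCompl [IsAlgClosed k] (ha : a ≠ 0) (hS : StdSimple p k a)
    [Module.Finite K(p, k) N] (F : N →ₛₗ[frob p k a] N) (hF : Function.Bijective F)
    {P : Submodule K(p, k) N} (hP : ∀ x ∈ P, F x ∈ P) :
    ∃ Q : Submodule K(p, k) N, (∀ x ∈ Q, F x ∈ Q) ∧ IsCompl P Q := by
  let X : Set (Submodule K(p, k) N) := {Q | (∀ x ∈ Q, F x ∈ Q) ∧ Disjoint P Q}
  have hne : X.Nonempty := ⟨⊥, fun x hx => by
    rw [Submodule.mem_bot] at hx; rw [hx, map_zero]; exact Submodule.zero_mem _, disjoint_bot_right⟩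
  obtain ⟨Q, hQ, hmax⟩ := WellFounded.has_min (wellFounded_gt (α := Submodule K(p, k) N)) X hne
  refine ⟨Q, hQ.1, hQ.2, ?_⟩
  rw [codisjoint_iff]
  by_contra hcon
  obtain ⟨d, h, x, hh, hdh, hx, hxQ⟩ := exists_standard ha F hF hcon
  have hPQ : ∀ y ∈ P ⊔ Q, F y ∈ P ⊔ Q := by
    intro y hy
    obtain ⟨y1, h1, y2, h2, rfl⟩ := Submodule.mem_sup.1 hy
    rw [map_add]
    exact Submodule.add_mem_sup (hP _ h1) (hQ.1 _ h2)
  have hd := disjoint_range_fx hS hh hdh hx hPQ hxQ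
  have h1 : Q ⊔ LinearMap.range (fx F h x) ∈ X := by
    refine ⟨fun y hy => ?_, Disjoint.disjoint_sup_right_of_disjoint_sup_left hQ.2 hd⟩
    obtain ⟨y1, h1, y2, h2, rfl⟩ := Submodule.mem_sup.1 hy
    rw [map_add]
    exact Submodule.add_mem_sup (hQ.1 _ h1) (fx_mem_range_stable hx _ h2)
  refine hmax _ h1 (lt_of_le_of_ne le_sup_left fun he => hxQ ?_)
  refine Submodule.mem_sup_right ?_
  rw [he]
  exact Submodule.mem_sup_right (mem_range_fx hh x)

end K773.Isoc
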