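import Groth.Agent.Isoc.K773.Lang
import Groth.Agent.Isoc.K773.Decomp

/-!
# Unit-root lattices over an algebraically closed field: Lang's lemma over `W(k)`
-/

set_option autoImplicit false
universe u v

namespace K773.Isoc

open _root_.Isoc
open scoped Pointwise Isocrystal
open IsLocalRing K985.SigmaLin

variable {p : ℕ} [Fact p.Prime] {k : Type u} [Field k] [CharP k p] [PerfectRing k p]
variable {N : Type v} [AddCommGroup N] [Module (WittVector p k) N] [Module K(p, k) N]
  [IsScalarTower (WittVector p k) K(p, k) N]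
variable {a : ℤ}

theorem frobeniusEquiv_pow_coeff_zero (m : ℕ) (w : WittVector p k) :
    ((WittVector.frobeniusEquiv p k ^ (m : ℤ)) w).coeff 0 = w.coeff 0 ^ p ^ m := by
  induction m with
  | zero => simp
  | succ m ih =>
    have h : ((WittVector.frobeniusEquiv p k ^ ((m + 1 : ℕ) : ℤ)) w) =
        WittVector.frobenius ((WittVector.frobeniusEquiv p k ^ (m : ℤ)) w) := by
      rw [Nat.cast_succ, add_comm, zpow_add, zpow_one]; rfl
    rw [h, WittVector.coeff_frobenius_charP, ih, ← pow_mul, pow_succ]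

/-- the residue field of `W(k)` -/
noncomputable def resEquiv (p : ℕ) [Fact p.Prime] (k : Type u) [Field k] [CharP k p]
    [PerfectRing k p] : ResidueField (WittVector p k) ≃+* k :=
  (Ideal.quotEquivOfEq maximalIdeal_eq).trans WittVector.quotientPEquiv

theorem resEquiv_residue (w : WittVector p k) :
    resEquiv p k (residue (WittVector p k) w) = w.coeff 0 := rfl

/-- `σ^m` on the residue field -/
noncomputable def sbar (p : ℕ) [Fact p.Prime] (k : Type u) [Field k] [CharP k p]
    [PerfectRing k p] (m : ℤ) :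
    ResidueField (WittVector p k) →+* ResidueField (WittVector p k) :=
  (ResidueField.mapEquiv (sg p k m)).toRingHom

theorem sbar_residue (m : ℤ) (w : WittVector p k) :
    sbar p k m (residue (WittVector p k) w) = residue (WittVector p k) (sg p k m w) := rfl

/-- restriction of an `L`-semilinear map to a stable `W`-submodule -/
noncomputable def restrictW (Φ : N →ₛₗ[frob p k a] N) (M : Submodule (WittVector p k) N)
    (h : ∀ x ∈ M, Φ x ∈ M) : M →ₛₗ[(sg p k a : WittVector p k →+* WittVector p k)] M where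
  toFun x := ⟨Φ x, h x x.2⟩
  map_add' x y := Subtype.ext (Φ.map_add x y)
  map_smul' c x := Subtype.ext (map_smulW Φ c x)

/-- Lang's lemma, `m > 0` -/
theorem span_fixed_pos [IsAlgClosed k] (m : ℕ) (hm : 0 < m) (Φ : N →ₛₗ[frob p k (m : ℤ)] N)
    (M : Submodule (WittVector p k) N) (hM : M.IsLattice K(p, k)) (h : im Φ M = M) :
    Submodule.span K(p, k) {x : N | Φ x = x} = ⊤ := by
  have hst : ∀ x ∈ M, Φ x ∈ M := fun x hx => by
    have : Φ x ∈ im Φ M := ⟨x, hx, rfl⟩
    rwa [h] at this
  have hfin : Module.Finite (WittVector p k) M := Submodule.IsLattice.finite K(p, k) M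
  have hac0 : IsAdicComplete (maximalIdeal (WittVector p k)) (WittVector p k) := by
    rw [maximalIdeal_eq]; infer_instance
  have hac : IsAdicComplete (maximalIdeal (WittVector p k)) M :=
    Groth.Agent.Ega2.CompleteFinite.isAdicComplete_of_finite
  have hq : 1 < p ^ m := Nat.one_lt_pow hm.ne' (Fact.out : p.Prime).one_lt
  have hspec : ∀ x, resEquiv p k (sbar p k m x) = iterateFrobenius k p m (resEquiv p k x) := by
    intro x
    obtain ⟨w, rfl⟩ := residue_surjective x
    rw [sbar_residue, resEquiv_residue, resEquiv_residue, iterateFrobenius_def]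
    exact frobeniusEquiv_pow_coeff_zero m w
  have h2 : Cond2 (sbar p k m) := cond2_transfer (resEquiv p k) (iterateFrobenius k p m) _ hspec
    (K773.IsocLang.cond2_pow hq _ fun x => iterateFrobenius_def p m x)
  have h3 : Cond3 (sbar p k m) := cond3_transfer (resEquiv p k) (iterateFrobenius k p m) _ hspec
    (K773.IsocLang.cond3_pow hq _ fun x => iterateFrobenius_def p m x)
  have hsurj : Function.Surjective (sbar p k m) := (ResidueField.mapEquiv (sg p k m)).surjective
  have key := K773.IsocLang.span_fixed_eq_top (p := p) (M := M) maximalIdeal_eq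
    (sbar_residue (p := p) (k := k) m) hsurj h2 h3 (restrictW Φ M hst) (by
      rw [eq_top_iff]
      rintro ⟨y, hy⟩ -
      have hy' : y ∈ im Φ M := by rw [h]; exact hy
      obtain ⟨x, hx, hxy⟩ := hy'
      exact Submodule.subset_span ⟨⟨x, hx⟩, Subtype.ext hxy⟩)
  rw [eq_top_iff, ← hM.span_eq_top, Submodule.span_le]
  intro x hx
  have hx' : (⟨x, hx⟩ : M) ∈ Submodule.span (WittVector p k) {m : M | restrictW Φ M hst m = m} := by
    rw [key]; trivial
  have h4 : ∀ y : M, y ∈ Submodule.span (WittVector p k) {m : M | restrictW Φ M hst m = m} →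
      (y : N) ∈ Submodule.span K(p, k) {x : N | Φ x = x} := by
    intro y hy
    induction hy using Submodule.span_induction with
    | mem z hz => exact Submodule.subset_span (congrArg Subtype.val hz)
    | zero => exact Submodule.zero_mem _
    | add y z _ _ hy hz => exact Submodule.add_mem _ hy hz
    | smul c y _ hy =>
      rw [Submodule.coe_smul, ← IsScalarTower.algebraMap_smul K(p, k) c (y : N)]
      exact Submodule.smul_mem _ _ hy
  exact h4 _ hx'

/-- the inverse of a bijective semilinear map -/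
noncomputable def inv (Φ : N →ₛₗ[frob p k a] N) (hΦ : Function.Bijective Φ) (b : ℤ)
    (hb : a + b = 0) : N →ₛₗ[frob p k b] N where
  toFun := (Equiv.ofBijective Φ hΦ).symm
  map_add' x y := by
    apply hΦ.1
    have h : ∀ z, Φ ((Equiv.ofBijective Φ hΦ).symm z) = z :=
      (Equiv.ofBijective Φ hΦ).apply_symm_apply
    rw [h, Φ.map_add, h, h]
  map_smul' c x := by
    apply hΦ.1
    have h : ∀ z, Φ ((Equiv.ofBijective Φ hΦ).symm z) = z :=
      (Equiv.ofBijective Φ hΦ).apply_symm_apply
    rw [LinearMap.map_smulₛₗ, frob_frob, hb, frob_zero_apply, h, h]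

theorem inv_apply_self (Φ : N →ₛₗ[frob p k a] N) (hΦ : Function.Bijective Φ) {b : ℤ}
    (hb : a + b = 0) (x : N) :
    inv Φ hΦ b hb (Φ x) = x := (Equiv.ofBijective Φ hΦ).symm_apply_apply x

theorem apply_inv_self (Φ : N →ₛₗ[frob p k a] N) (hΦ : Function.Bijective Φ) {b : ℤ}
    (hb : a + b = 0) (x : N) :
    Φ (inv Φ hΦ b hb x) = x := (Equiv.ofBijective Φ hΦ).apply_symm_apply x

/-- **Lang's lemma over `W(k)`**: a lattice with a `σ^m`-semilinear bijection, `m ≠ 0`, is spanned by
fixed vectors. -/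
theorem span_fixed [IsAlgClosed k] {m : ℤ} (hm : m ≠ 0) (Φ : N →ₛₗ[frob p k m] N)
    (hΦ : Function.Bijective Φ)
    (M : Submodule (WittVector p k) N) (hM : M.IsLattice K(p, k)) (h : im Φ M = M) :
    Submodule.span K(p, k) {x : N | Φ x = x} = ⊤ := by
  rcases lt_or_gt_of_ne hm with hneg | hpos
  · obtain ⟨n, rfl⟩ : ∃ n : ℕ, m = -(n : ℤ) := ⟨m.natAbs, by omega⟩
    have hn : 0 < n := by omega
    have hb : -(n : ℤ) + n = 0 := by omega
    have him : im (inv Φ hΦ n hb) M = M := by
      apply le_antisymm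
      · rintro _ ⟨x, hx, rfl⟩
        rw [← h] at hx
        obtain ⟨y, hy, rfl⟩ := hx
        show inv Φ hΦ n hb (Φ y) ∈ M
        rwa [inv_apply_self]
      · intro x hx
        have hx' : Φ x ∈ M := by
          have : Φ x ∈ im Φ M := ⟨x, hx, rfl⟩
          rwa [h] at this
        exact ⟨Φ x, hx', inv_apply_self Φ hΦ hb x⟩
    have h1 := span_fixed_pos n hn (inv Φ hΦ n hb) M hM him
    rw [← h1]
    congr 1
    ext x
    constructor
    · intro hx
      show inv Φ hΦ n hb x = x
      conv_lhs => rw [← show Φ x = x from hx]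
      exact inv_apply_self Φ hΦ hb x
    · intro hx
      show Φ x = x
      conv_lhs => rw [← show inv Φ hΦ n hb x = x from hx]
      exact apply_inv_self Φ hΦ hb x
  · obtain ⟨n, rfl⟩ : ∃ n : ℕ, m = (n : ℤ) := ⟨m.natAbs, by omega⟩
    exact span_fixed_pos n (by omega) Φ M hM h

/-- reduction to lowest terms -/
theorem exists_lowest {r : ℤ} {s : ℕ} (hs : 0 < s) {μ : ℚ} (h : (r : ℚ) / s = μ) :
    ∃ t : ℕ, 0 < t ∧ s = μ.den * t ∧ r = μ.num * t := by
  have h1 : r * μ.den = μ.num * s :=
    exponents_eq hs μ.pos h (Rat.num_div_den μ)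
  have hdvd : (μ.den : ℤ) ∣ s := by
    have h2 : (μ.den : ℤ) ∣ μ.num * s := ⟨r, by rw [← h1]; ring⟩
    refine IsCoprime.dvd_of_dvd_mul_left ?_ h2
    rw [Int.isCoprime_iff_gcd_eq_one]
    have := μ.reduced
    rw [Int.gcd_comm]
    exact this
  obtain ⟨t, ht⟩ := Int.natCast_dvd_natCast.1 hdvd
  have hμ : 0 < μ.den := μ.pos
  have ht0 : 0 < t := by
    rcases Nat.eq_zero_or_pos t with h0 | h0
    · rw [h0, mul_zero] at ht; omega
    · exact h0
  refine ⟨t, ht0, ht, ?_⟩
  have h3 : (μ.den : ℤ) ≠ 0 := by exact_mod_cast hμ.ne'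
  apply mul_right_cancel₀ h3
  rw [h1, ht]
  push_cast; ring

/-- `N` isoclinic of slope `μ = d / h`, `k` algebraically closed, `a ≠ 0`: `N` is spanned by the
vectors with `F^h x = p^d x`. -/
theorem span_standard [IsAlgClosed k] (ha : a ≠ 0) (F : N →ₛₗ[frob p k a] N)
    (hF : Function.Bijective F) {μ : ℚ} (h : IsoclOn F ⊤ μ) :
    Submodule.span K(p, k) {x : N | tw F μ.num μ.den x = x} = ⊤ := by
  obtain ⟨M, hM, hspan, r, s, hs, hμ, him⟩ := h
  have hMl : M.IsLattice K(p, k) := ⟨hM, hspan⟩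
  obtain ⟨t, ht, rfl, rfl⟩ := exists_lowest hs hμ
  set Φ := tw F μ.num μ.den with hΦ
  have hΦb : Function.Bijective Φ := tw_bijective F hF _ _
  have hm : a * μ.den ≠ 0 := mul_ne_zero ha (by exact_mod_cast μ.pos.ne')
  obtain ⟨n, rfl⟩ : ∃ n, t = n + 1 := ⟨t - 1, by omega⟩
  have hiter : ∀ x, (⇑Φ)^[n + 1] x = tw F (μ.num * (n + 1 : ℕ)) (μ.den * (n + 1)) x := fun x => by
    rw [hΦ, tw_iter']
  have hstab : S Φ M n ≤ (S Φ M n).comap (resW Φ) := by
    refine S_le_iff.2 fun i hi x hx => ?_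
    show Φ ((⇑Φ)^[i] x) ∈ S Φ M n
    rw [← Function.iterate_succ_apply' (⇑Φ)]
    by_cases hit : i + 1 ≤ n
    · exact iter_mem_S hit hx
    · obtain rfl : i = n := by omega
      refine iter_mem_S (F := Φ) (i := 0) (Nat.zero_le _) (x := (⇑Φ)^[i.succ] x) ?_
      have : tw F (μ.num * (i + 1 : ℕ)) (μ.den * (i + 1)) x ∈
        im (tw F (μ.num * (i + 1 : ℕ)) (μ.den * (i + 1))) M := ⟨x, hx, rfl⟩
      rw [him] at this
      rw [Nat.succ_eq_add_one, hiter]
      exact this
  refine span_fixed hm Φ hΦb (S Φ M n) (S_isLattice hMl n) (le_antisymm ?_ ?_)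
  · rintro _ ⟨x, hx, rfl⟩
    exact hstab hx
  · refine S_le_iff.2 fun i hi x hx => ?_
    rcases Nat.eq_zero_or_pos i with rfl | hi0
    · rw [← him] at hx
      obtain ⟨y, hy, rfl⟩ := hx
      refine ⟨(⇑Φ)^[n] y, iter_mem_S le_rfl hy, ?_⟩
      rw [resW_apply, ← Function.iterate_succ_apply' (⇑Φ)]
      exact hiter y
    · obtain ⟨j, rfl⟩ : ∃ j, i = j + 1 := ⟨i - 1, by omega⟩
      exact ⟨(⇑Φ)^[j] x, iter_mem_S (by omega) hx, (Function.iterate_succ_apply' _ _ _).symm⟩

end K773.Isoc
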